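import Mathlib
import Cfsg.Agent.Lib.helper5.BlockFMT
import Cfsg.Agent.Lib.helper5.BlockSecond3
import Cfsg.Agent.Lib.helper23.Clifford
import Cfsg.Agent.Lib.helper22.CliffDeg

/-!
# Blocks and normal subgroups: covering

For `N` normal in `G`: a constituent `θ` of `χ_N` determines the central character of `χ` on
`N` (`centralChar_eq_induced_of_constituent`); `G`-invariant central elements of the group
algebra of `N` are central in that of `G` (`coord_eq_sum_induced`); hence two characters of `N`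
whose induced central characters are congruent are `G`-conjugate up to blocks
(`exists_conj_sameBlock`).
-/

set_option autoImplicit false

namespace Cfsg.Agent.Lib.helper5

open Cfsg.Agent.Lib.helper23 Cfsg.Agent.Lib.helper24
open scoped ComplexConjugate

universe u

section sums

variable {G : Type u} [Group G] [Fintype G]

theorem sum_eq_sum_subgroup (N : Subgroup G) [Fintype N] (F : G → ℂ)
    (hF : ∀ x, x ∉ N → F x = 0) : ∑ x : G, F x = ∑ m : N, F (m : G) := by
  classical
  have h1 : ∑ x : G, F x = ∑ x ∈ Finset.univ.filter (fun x => x ∈ N), F x := by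
    rw [Finset.sum_filter]
    apply Finset.sum_congr rfl
    intro x _
    by_cases hx : x ∈ N
    · rw [if_pos hx]
    · rw [if_neg hx, hF x hx]
  rw [h1]
  exact Finset.sum_subtype _ (by simp) F

end sums

section equiv

variable {H₁ H₂ : Type u} [Group H₁] [Group H₂] {M : Ideal Cfsg.AlgInt}

theorem index_centralizer_equiv (e : H₁ ≃* H₂) (h : H₁) :
    (Subgroup.centralizer ({e h} : Set H₂)).index
      = (Subgroup.centralizer ({h} : Set H₁)).index := by
  have key : Subgroup.centralizer ({e h} : Set H₂)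
      = (Subgroup.centralizer ({h} : Set H₁)).map e.toMonoidHom := by
    ext x
    rw [Subgroup.mem_map_equiv, mem_centralizer_singleton_comm, mem_centralizer_singleton_comm]
    constructor
    · intro hx
      apply e.injective
      rw [map_mul, map_mul, MulEquiv.apply_symm_apply]
      exact hx
    · intro hx
      have := congrArg e hx
      rw [map_mul, map_mul, MulEquiv.apply_symm_apply] at this
      exact this
  rw [key]
  exact Subgroup.index_map_equiv _ e

theorem centralChar_comp_equiv (e : H₁ ≃* H₂) (ξ : H₂ → ℂ) (h : H₁) :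
    Cfsg.centralChar (ξ ∘ e) h = Cfsg.centralChar ξ (e h) := by
  unfold Cfsg.centralChar
  rw [index_centralizer_equiv e h]
  simp

theorem sameBlock_comp_equiv (e : H₁ ≃* H₂) {ξ ξ' : H₂ → ℂ} (h : Cfsg.SameBlock M ξ ξ') :
    Cfsg.SameBlock M (ξ ∘ e) (ξ' ∘ e) := by
  intro x
  rw [centralChar_comp_equiv, centralChar_comp_equiv]
  exact h (e x)

end equiv

section cover

variable {G : Type u} [Group G] [Fintype G] [Fintype (Cfsg.IrrCharacter G)]
variable (N : Subgroup G) [hN : N.Normal] [Fintype N] [Fintype (Cfsg.IrrCharacter N)]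
variable {M : Ideal Cfsg.AlgInt}

/-- conjugate of an irreducible character of a normal subgroup -/
noncomputable def conjIrr (g : G) (ψ : Cfsg.IrrCharacter N) : Cfsg.IrrCharacter N :=
  ⟨helper24.conjFun N ψ.1 g, conjFun_isIrr N ψ.2 g⟩

omit [Fintype G] [Fintype (Cfsg.IrrCharacter G)] [Fintype N] [Fintype (Cfsg.IrrCharacter N)] in
theorem conjIrr_val (g : G) (ψ : Cfsg.IrrCharacter N) : (conjIrr N g ψ).1 = helper24.conjFun N ψ.1 g := rfl

omit [Fintype G] [Fintype (Cfsg.IrrCharacter G)] [Fintype N] [Fintype (Cfsg.IrrCharacter N)] in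
theorem conjIrr_mul (g g' : G) (ψ : Cfsg.IrrCharacter N) :
    conjIrr N (g * g') ψ = conjIrr N g' (conjIrr N g ψ) :=
  Subtype.ext (conjFun_mul N ψ.1 g g')

omit [Fintype G] [Fintype (Cfsg.IrrCharacter G)] [Fintype N] [Fintype (Cfsg.IrrCharacter N)] in
theorem conjIrr_one (ψ : Cfsg.IrrCharacter N) : conjIrr N 1 ψ = ψ :=
  Subtype.ext (conjFun_one N ψ.1)

/-- conjugation by `g` as a permutation of the irreducible characters of `N` -/
noncomputable def conjIrrEquiv (g : G) : Cfsg.IrrCharacter N ≃ Cfsg.IrrCharacter N where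
  toFun := conjIrr N g
  invFun := conjIrr N g⁻¹
  left_inv ψ := by rw [← conjIrr_mul, mul_inv_cancel, conjIrr_one]
  right_inv ψ := by rw [← conjIrr_mul, inv_mul_cancel, conjIrr_one]

omit [Fintype G] [Fintype (Cfsg.IrrCharacter G)] [Fintype N] [Fintype (Cfsg.IrrCharacter N)] in
theorem sameBlock_conjFun (g : G) {ξ ξ' : N → ℂ} (h : Cfsg.SameBlock M ξ ξ') :
    Cfsg.SameBlock M (helper24.conjFun N ξ g) (helper24.conjFun N ξ' g) :=
  sameBlock_comp_equiv (MulAut.conjNormal g : N ≃* N) h

/-- a constituent `θ` of `χ_N` determines the central character of `χ` on `N` -/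
theorem centralChar_eq_induced_of_constituent (χ : Cfsg.IrrCharacter G)
    (θ : Cfsg.IrrCharacter N)
    (h : Cfsg.classInner (fun n : N => χ.1 n) θ.1 ≠ 0) (n : N) :
    Cfsg.centralChar χ.1 (n : G) = Cfsg.inducedCentralChar N θ.1 (n : G) := by
  classical
  have hNne : (Nat.card N : ℂ) ≠ 0 := NeZero.ne _
  have hθ1 := irr_one_ne_zero θ
  have hχ1 := irr_one_ne_zero χ
  obtain ⟨f, hfdef⟩ : ∃ f : G → ℂ, f = fun x => if IsConj (n : G) x then 1 else 0 := ⟨_, rfl⟩
  have hfc : Cfsg.IsClassFunction G f := by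
    intro g x
    rw [hfdef]
    show (if IsConj (n : G) (x * g * x⁻¹) then (1:ℂ) else 0) = if IsConj (n : G) g then 1 else 0
    have hiff : IsConj (n : G) (x * g * x⁻¹) ↔ IsConj (n : G) g := by
      constructor
      · intro h1
        exact h1.trans (isConj_iff.mpr ⟨x⁻¹, by group⟩)
      · intro h1
        exact h1.trans (isConj_iff.mpr ⟨x, rfl⟩)
    simp only [hiff]
  have hfN : ∀ x, x ∉ N → f x = 0 := by
    intro x hx
    rw [hfdef]
    show (if IsConj (n : G) x then (1:ℂ) else 0) = 0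
    rw [if_neg]
    intro hc
    obtain ⟨t, ht⟩ := isConj_iff.mp hc
    apply hx
    rw [← ht]
    exact hN.conj_mem n n.2 t
  have h2 : ∀ k : N, ∑ m : N, f (m : G) * χ.1 ((m : G) * (k : G))
      = Cfsg.centralChar χ.1 (n : G) * χ.1 (k : G) := by
    intro k
    rw [← sum_eq_sum_subgroup N (fun x => f x * χ.1 (x * (k : G)))
      (fun x hx => by rw [hfN x hx, zero_mul]), irr_classFn_convolution χ hfc (k : G)]
    have h3 : ∑ g : G, f g * χ.1 g
        = ((Subgroup.centralizer ({(n : G)} : Set G)).index : ℂ) * χ.1 (n : G) := by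
      rw [hfdef]
      have h4 : ∀ g : G, (if IsConj (n : G) g then (1:ℂ) else 0) * χ.1 g
          = if IsConj (n : G) g then χ.1 (n : G) else 0 := by
        intro g
        by_cases hc : IsConj (n : G) g
        · rw [if_pos hc, if_pos hc, one_mul]
          exact (isClassFunction_of_isConj (isClassFunction_irr χ) hc).symm
        · rw [if_neg hc, if_neg hc, zero_mul]
      simp only [h4]
      rw [← Finset.sum_filter, Finset.sum_const, card_isConj_eq_index, nsmul_eq_mul]
    rw [h3]
    unfold Cfsg.centralChar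
    field_simp
  have h1 : ∀ m : N, ∑ k : N, conj (θ.1 k) * χ.1 ((k : G) * (m : G))
      = Cfsg.classInner (fun n : N => χ.1 n) θ.1 * (Nat.card N : ℂ) * (θ.1 m / θ.1 1) := by
    intro m
    have hres : Cfsg.IsClassFunction N (fun n : N => χ.1 n) := by
      intro g x
      exact isClassFunction_irr χ (g : G) (x : G)
    have hexp : ∀ k : N, χ.1 ((k : G) * (m : G))
        = ∑ ψ : Cfsg.IrrCharacter N,
            Cfsg.classInner (fun n : N => χ.1 n) ψ.1 * ψ.1 (k * m) := by
      intro k
      exact classFunction_expansion_apply hres (k * m)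
    simp only [hexp, Finset.mul_sum]
    rw [Finset.sum_comm]
    have h5 : ∀ ψ : Cfsg.IrrCharacter N,
        ∑ k : N, conj (θ.1 k) * (Cfsg.classInner (fun n : N => χ.1 n) ψ.1 * ψ.1 (k * m))
        = Cfsg.classInner (fun n : N => χ.1 n) ψ.1
            * (if ψ = θ then (Nat.card N : ℂ) * ψ.1 m / ψ.1 1 else 0) := by
      intro ψ
      rw [← irr_convolution_conj ψ θ m, Finset.mul_sum]
      apply Finset.sum_congr rfl
      intro k _
      ring
    simp only [h5]
    rw [Finset.sum_eq_single θ]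
    · rw [if_pos rfl]
      ring
    · intro ψ _ hψ
      rw [if_neg hψ, mul_zero]
    · intro h'
      exact absurd (Finset.mem_univ θ) h'
  have hD1 : ∑ k : N, conj (θ.1 k) * ∑ m : N, f (m : G) * χ.1 ((m : G) * (k : G))
      = Cfsg.centralChar χ.1 (n : G)
          * ((Nat.card N : ℂ) * Cfsg.classInner (fun n : N => χ.1 n) θ.1) := by
    simp only [h2]
    rw [← sum_mul_conj_eq_classInner, Finset.mul_sum]
    apply Finset.sum_congr rfl
    intro k _
    ring
  have hD2 : ∑ k : N, conj (θ.1 k) * ∑ m : N, f (m : G) * χ.1 ((m : G) * (k : G))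
      = Cfsg.classInner (fun n : N => χ.1 n) θ.1 * (Nat.card N : ℂ)
          * Cfsg.inducedCentralChar N θ.1 (n : G) := by
    simp only [Finset.mul_sum]
    rw [Finset.sum_comm]
    have h6 : ∀ m : N, ∑ k : N, conj (θ.1 k) * (f (m : G) * χ.1 ((m : G) * (k : G)))
        = f (m : G) * (Cfsg.classInner (fun n : N => χ.1 n) θ.1 * (Nat.card N : ℂ)
            * (θ.1 m / θ.1 1)) := by
      intro m
      rw [← h1 m, Finset.mul_sum]
      apply Finset.sum_congr rfl
      intro k _
      have hcomm : χ.1 ((m : G) * (k : G)) = χ.1 ((k : G) * (m : G)) := by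
        have := isClassFunction_irr χ ((m : G) * (k : G)) (m : G)⁻¹
        rw [← this]
        congr 1
        group
      rw [hcomm]
      ring
    simp only [h6]
    unfold Cfsg.inducedCentralChar
    rw [finsum_mem_def, finsum_eq_sum_of_fintype, Finset.mul_sum]
    apply Finset.sum_congr rfl
    intro m _
    rw [hfdef]
    by_cases hc : IsConj (n : G) (m : G)
    · rw [Set.indicator_of_mem (show m ∈ {h : N | IsConj (n : G) (h : G)} from hc)]
      show (if IsConj (n : G) (m : G) then (1:ℂ) else 0) * _ = _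
      rw [if_pos hc, one_mul]
    · rw [Set.indicator_of_notMem (show m ∉ {h : N | IsConj (n : G) (h : G)} from hc)]
      show (if IsConj (n : G) (m : G) then (1:ℂ) else 0) * _ = _
      rw [if_neg hc, zero_mul, mul_zero]
  have hfin := hD1.symm.trans hD2
  have hcanc : Cfsg.classInner (fun n : N => χ.1 n) θ.1 * (Nat.card N : ℂ)
        * Cfsg.centralChar χ.1 (n : G)
      = Cfsg.classInner (fun n : N => χ.1 n) θ.1 * (Nat.card N : ℂ)
        * Cfsg.inducedCentralChar N θ.1 (n : G) := by
    rw [← hfin]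
    ring
  exact mul_left_cancel₀ (mul_ne_zero h hNne) hcanc

omit [Fintype G] [Fintype (Cfsg.IrrCharacter G)] in
/-- the coefficients of a `G`-invariant central element of the group algebra of `N` are
`G`-invariant -/
theorem coef_conjNormal (w : Cfsg.IrrCharacter N → ℂ)
    (hw : ∀ (g : G) (ψ : Cfsg.IrrCharacter N), w (conjIrr N g ψ) = w ψ) (g : G) (n : N) :
    coef w (⟨g * n * g⁻¹, hN.conj_mem n n.2 g⟩ : N) = coef w n := by
  unfold coef
  congr 1
  have h1 := Equiv.sum_comp (conjIrrEquiv N g)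
    (fun ψ' : Cfsg.IrrCharacter N => w ψ' * (ψ'.1 1 * conj (ψ'.1 n)))
  rw [← h1]
  apply Finset.sum_congr rfl
  intro ψ _
  show w ψ * (ψ.1 1 * conj (ψ.1 ⟨g * n * g⁻¹, hN.conj_mem n n.2 g⟩))
    = w (conjIrr N g ψ) * ((conjIrr N g ψ).1 1 * conj ((conjIrr N g ψ).1 n))
  rw [hw]
  have e1 : (conjIrr N g ψ).1 1 = ψ.1 1 := by
    show ψ.1 ⟨g * ((1 : N) : G) * g⁻¹, _⟩ = ψ.1 1
    exact congrArg ψ.1 (Subtype.ext (by simp))
  rw [e1]
  rfl

/-- a `G`-invariant central element of the group algebra of `N`, evaluated through the induced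
central characters -/
theorem coord_eq_sum_induced [DecidableEq G] (w : Cfsg.IrrCharacter N → ℂ)
    (hw : ∀ (g : G) (ψ : Cfsg.IrrCharacter N), w (conjIrr N g ψ) = w ψ)
    (θ : Cfsg.IrrCharacter N) :
    w θ = ∑ c : ConjClasses G, Cfsg.extendByZero N (coef w) (Quotient.out c)
      * Cfsg.inducedCentralChar N θ.1 (Quotient.out c) := by
  have hF : Cfsg.IsClassFunction G (Cfsg.extendByZero N (coef w)) := by
    intro g x
    by_cases hg : g ∈ N
    · rw [extendByZero_apply_mem N _ hg, extendByZero_apply_mem N _ (hN.conj_mem g hg x)]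
      exact coef_conjNormal N w hw x ⟨g, hg⟩
    · have hx : x * g * x⁻¹ ∉ N := by
        intro h
        apply hg
        have h' := hN.conj_mem _ h x⁻¹
        have e : x⁻¹ * (x * g * x⁻¹) * x⁻¹⁻¹ = g := by group
        rwa [e] at h'
      rw [extendByZero_apply_not_mem N _ hg, extendByZero_apply_not_mem N _ hx]
  have h1 : brFun N ⊤ θ (coord (Cfsg.extendByZero N (coef w))) = w θ := by
    rw [brFun_apply]
    have h2 : brTrunc N ⊤ (coord (Cfsg.extendByZero N (coef w))) = coef w := by
      funext h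
      rw [brTrunc_of_mem _ (Subgroup.mem_top _), coef_coord _ hF, extendByZero_apply_coe]
    rw [h2, coord_coef]
  rw [← h1, linear_eq_sum_conjClasses (brFun N ⊤ θ)]
  apply Finset.sum_congr rfl
  intro c _
  rw [coef_coord _ hF, brFun_top]

/-- congruent induced central characters give congruent values on `G`-invariant central
elements with local coefficients -/
theorem memLocalIdeal_sub_of_induced (hM : M.IsPrime) (w : Cfsg.IrrCharacter N → ℂ)
    (hw : ∀ (g : G) (ψ : Cfsg.IrrCharacter N), w (conjIrr N g ψ) = w ψ)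
    (hwR : w ∈ osimaRing N M hM) (θ θ₁ : Cfsg.IrrCharacter N)
    (h : ∀ n : N, Cfsg.MemLocalIdeal M
      (Cfsg.inducedCentralChar N θ.1 (n : G) - Cfsg.inducedCentralChar N θ₁.1 (n : G))) :
    Cfsg.MemLocalIdeal M (w θ - w θ₁) := by
  classical
  rw [coord_eq_sum_induced N w hw θ, coord_eq_sum_induced N w hw θ₁, ← Finset.sum_sub_distrib]
  apply memLocalIdeal_sum hM
  intro c _
  rw [← mul_sub]
  by_cases hc : Quotient.out c ∈ N
  · rw [extendByZero_apply_mem N _ hc]
    exact memLocalIdeal_mul_left hM (hwR _) (h ⟨_, hc⟩)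
  · rw [extendByZero_apply_not_mem N _ hc, zero_mul]
    exact memLocalIdeal_zero hM.ne_top

/-- equal induced central characters give equal values on `G`-invariant central elements -/
theorem eq_of_induced_eq (w : Cfsg.IrrCharacter N → ℂ)
    (hw : ∀ (g : G) (ψ : Cfsg.IrrCharacter N), w (conjIrr N g ψ) = w ψ)
    (θ θ₁ : Cfsg.IrrCharacter N)
    (h : ∀ n : N, Cfsg.inducedCentralChar N θ.1 (n : G)
      = Cfsg.inducedCentralChar N θ₁.1 (n : G)) : w θ = w θ₁ := by
  classical
  rw [coord_eq_sum_induced N w hw θ, coord_eq_sum_induced N w hw θ₁]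
  apply Finset.sum_congr rfl
  intro c _
  by_cases hc : Quotient.out c ∈ N
  · have h' : Cfsg.inducedCentralChar N θ.1 (Quotient.out c)
        = Cfsg.inducedCentralChar N θ₁.1 (Quotient.out c) := h ⟨_, hc⟩
    rw [h']
  · rw [extendByZero_apply_not_mem N _ hc, zero_mul, zero_mul]

/-- characters of `N` with congruent induced central characters are `G`-conjugate up to
blocks -/
theorem exists_conj_sameBlock (hM : M.IsPrime) (θ θ₁ : Cfsg.IrrCharacter N)
    (h : ∀ n : N, Cfsg.MemLocalIdeal M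
      (Cfsg.inducedCentralChar N θ.1 (n : G) - Cfsg.inducedCentralChar N θ₁.1 (n : G))) :
    ∃ g : G, Cfsg.SameBlock M θ.1 (helper24.conjFun N θ₁.1 g) := by
  classical
  obtain ⟨U, hU⟩ : ∃ U : Set (Cfsg.IrrCharacter N),
      U = {ψ | ∃ g : G, Cfsg.SameBlock M θ.1 (helper24.conjFun N ψ.1 g)} := ⟨_, rfl⟩
  have hinv : ∀ (g : G) (ψ : Cfsg.IrrCharacter N),
      U.indicator (fun _ => (1:ℂ)) (conjIrr N g ψ) = U.indicator (fun _ => (1:ℂ)) ψ := by
    intro g ψ
    have hiff : conjIrr N g ψ ∈ U ↔ ψ ∈ U := by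
      rw [hU]
      constructor
      · rintro ⟨x, hx⟩
        refine ⟨g * x, ?_⟩
        rw [conjFun_mul]
        exact hx
      · rintro ⟨x, hx⟩
        refine ⟨g⁻¹ * x, ?_⟩
        show Cfsg.SameBlock M θ.1 (helper24.conjFun N (helper24.conjFun N ψ.1 g) (g⁻¹ * x))
        rw [← conjFun_mul, mul_inv_cancel_left]
        exact hx
    by_cases hψ : ψ ∈ U
    · rw [Set.indicator_of_mem hψ, Set.indicator_of_mem (hiff.mpr hψ)]
    · rw [Set.indicator_of_notMem hψ, Set.indicator_of_notMem (fun h' => hψ (hiff.mp h'))]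
  have hclosed : ∀ ξ ∈ U, ∀ ξ' : Cfsg.IrrCharacter N, Cfsg.SameBlock M ξ.1 ξ'.1 → ξ' ∈ U := by
    intro ξ hξ ξ' hsb
    rw [hU] at hξ ⊢
    obtain ⟨x, hx⟩ := hξ
    exact ⟨x, sameBlock_trans hM hx (sameBlock_conjFun N x hsb)⟩
  have hwR := indicator_mem_osimaRing_of_closed hM U hclosed
  have hsub := memLocalIdeal_sub_of_induced N hM _ hinv hwR θ θ₁ h
  have hθU : θ ∈ U := by
    rw [hU]
    refine ⟨1, ?_⟩
    rw [conjFun_one]
    exact sameBlock_refl hM.ne_top _
  by_contra hcon
  have hθ₁U : θ₁ ∉ U := by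
    rw [hU]
    exact hcon
  rw [Set.indicator_of_mem hθU, Set.indicator_of_notMem hθ₁U, sub_zero] at hsub
  exact not_memLocalIdeal_one hM hsub

/-- constituents of the restrictions to `N` of two characters in the same block are conjugate
up to blocks -/
theorem cover_conj (hM : M.IsPrime) {χ χ' : Cfsg.IrrCharacter G}
    (hsb : Cfsg.SameBlock M χ.1 χ'.1) {θ ψ : Cfsg.IrrCharacter N}
    (hθ : Cfsg.classInner (fun n : N => χ.1 n) θ.1 ≠ 0)
    (hψ : Cfsg.classInner (fun n : N => χ'.1 n) ψ.1 ≠ 0) :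
    ∃ g : G, Cfsg.SameBlock M θ.1 (helper24.conjFun N ψ.1 g) := by
  apply exists_conj_sameBlock N hM
  intro n
  rw [← centralChar_eq_induced_of_constituent N χ θ hθ n,
    ← centralChar_eq_induced_of_constituent N χ' ψ hψ n]
  exact hsb n

omit [Fintype (Cfsg.IrrCharacter G)] hN [Fintype (Cfsg.IrrCharacter N)] in
theorem exists_constituent_restrict (χ : Cfsg.IrrCharacter G) :
    ∃ θ : Cfsg.IrrCharacter N, Cfsg.classInner (fun n : N => χ.1 n) θ.1 ≠ 0 := by
  apply exists_constituent
    (Cfsg.Agent.Lib.helper24.isCharacter_restrict N (isCharacter_of_isIrrCharacter χ.2))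
  show χ.1 ((1 : N) : G) ≠ 0
  rw [Subgroup.coe_one]
  exact irr_one_ne_zero χ

omit [Fintype (Cfsg.IrrCharacter G)] [Fintype (Cfsg.IrrCharacter N)] in
theorem constituent_conjIrr (χ : Cfsg.IrrCharacter G) (θ : Cfsg.IrrCharacter N) (g : G) :
    Cfsg.classInner (fun n : N => χ.1 n) (conjIrr N g θ).1
      = Cfsg.classInner (fun n : N => χ.1 n) θ.1 :=
  classInner_restrict_conjFun N (isClassFunction_irr χ) θ.1 g

end cover

section cover2

variable {G : Type u} [Group G] [Fintype G] [Fintype (Cfsg.IrrCharacter G)]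
variable (N : Subgroup G) [hN : N.Normal] [Fintype N] [Fintype (Cfsg.IrrCharacter N)]
variable {M : Ideal Cfsg.AlgInt} {p : ℕ} [Fact p.Prime]

/-- the `G`-orbit of an irreducible character of `N` -/
def conjOrb (θ : Cfsg.IrrCharacter N) : Set (Cfsg.IrrCharacter N) :=
  {ψ | ∃ g : G, ψ = conjIrr N g θ}

omit [Fintype G] [Fintype (Cfsg.IrrCharacter G)] [Fintype N] [Fintype (Cfsg.IrrCharacter N)] in
theorem self_mem_conjOrb (θ : Cfsg.IrrCharacter N) : θ ∈ conjOrb N θ :=
  ⟨1, (conjIrr_one N θ).symm⟩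

omit [Fintype G] [Fintype (Cfsg.IrrCharacter G)] [Fintype N] [Fintype (Cfsg.IrrCharacter N)] in
theorem conjOrb_indicator_inv (θ : Cfsg.IrrCharacter N) (g : G) (ψ : Cfsg.IrrCharacter N) :
    (conjOrb N θ).indicator (fun _ => (1:ℂ)) (conjIrr N g ψ)
      = (conjOrb N θ).indicator (fun _ => (1:ℂ)) ψ := by
  classical
  have hiff : conjIrr N g ψ ∈ conjOrb N θ ↔ ψ ∈ conjOrb N θ := by
    constructor
    · rintro ⟨x, hx⟩
      refine ⟨x * g⁻¹, ?_⟩
      rw [conjIrr_mul, ← hx, ← conjIrr_mul, mul_inv_cancel, conjIrr_one]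
    · rintro ⟨x, hx⟩
      refine ⟨x * g, ?_⟩
      rw [conjIrr_mul, ← hx]
  by_cases hψ : ψ ∈ conjOrb N θ
  · rw [Set.indicator_of_mem hψ, Set.indicator_of_mem (hiff.mpr hψ)]
  · rw [Set.indicator_of_notMem hψ, Set.indicator_of_notMem (fun h' => hψ (hiff.mp h'))]

omit [Fintype G] [Fintype (Cfsg.IrrCharacter G)] hN in
/-- for a group of order prime to `p`, every coordinate vector with local entries lies in the
Osima ring -/
theorem mem_osimaRing_of_pPrime (hM : Cfsg.IsPModular p M) (hpN : ¬ p ∣ Nat.card N)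
    (w : Cfsg.IrrCharacter N → ℂ) (hw : ∀ ψ, Cfsg.MemLocalRing M (w ψ)) :
    w ∈ osimaRing N M (isPModular_isPrime hM) := by
  have hMp := isPModular_isPrime hM
  intro n
  unfold coef
  apply memLocalRing_mul hMp (memLocalRing_inv_natCast hM _ hpN)
  apply memLocalRing_sum hMp
  intro ψ _
  apply memLocalRing_mul hMp (hw ψ)
  apply memLocalRing_mul hMp
  · exact memLocalRing_of_isIntegral hMp.ne_top
      (isCharacter_isIntegral (isCharacter_of_isIrrCharacter ψ.2) 1)
  · rw [← irr_inv]
    exact memLocalRing_of_isIntegral hMp.ne_top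
      (isCharacter_isIntegral (isCharacter_of_isIrrCharacter ψ.2) n⁻¹)

omit [Fintype G] [Fintype (Cfsg.IrrCharacter G)] [Fintype N] [Fintype (Cfsg.IrrCharacter N)]
  [Fact p.Prime] in
/-- `p`-regular elements lie in a normal subgroup of `p`-power index -/
theorem mem_of_pRegular_of_index_pow (hp : p.Prime) {k : ℕ} (hidx : N.index = p ^ k) {g : G}
    (hg : ¬ p ∣ orderOf g) : g ∈ N := by
  have h1 : orderOf (QuotientGroup.mk' N g) ∣ p ^ k := by
    rw [← hidx, Subgroup.index_eq_card]
    exact orderOf_dvd_natCard _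
  have h2 : orderOf (QuotientGroup.mk' N g) ∣ orderOf g := orderOf_map_dvd _ g
  have hcop : Nat.Coprime (p ^ k) (orderOf g) :=
    Nat.Coprime.pow_left k ((Nat.Prime.coprime_iff_not_dvd hp).mpr hg)
  have h3 := Nat.eq_one_of_dvd_coprimes hcop h1 h2
  have h4 := orderOf_eq_one_iff.mp h3
  exact (QuotientGroup.eq_one_iff g).mp h4

/-- if `G/N` is a `p`-group, characters of `G` lying over characters of `N` in the same block
are in the same block -/
theorem sameBlock_of_cover_index_pow (hM : Cfsg.IsPModular p M) {k : ℕ} (hidx : N.index = p ^ k)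
    {χ χ' : Cfsg.IrrCharacter G} {θ θ' : Cfsg.IrrCharacter N}
    (hsb : Cfsg.SameBlock M θ.1 θ'.1)
    (h1 : Cfsg.classInner (fun n : N => χ.1 n) θ.1 ≠ 0)
    (h2 : Cfsg.classInner (fun n : N => χ'.1 n) θ'.1 ≠ 0) : Cfsg.SameBlock M χ.1 χ'.1 := by
  have hMp := isPModular_isPrime hM
  have hp : p.Prime := Fact.out
  apply sameBlock_of_p_regular hM
  intro g hg
  have hgN : g ∈ N := mem_of_pRegular_of_index_pow N hp hidx hg
  have e1 : Cfsg.centralChar χ.1 g = Cfsg.inducedCentralChar N θ.1 g :=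
    centralChar_eq_induced_of_constituent N χ θ h1 ⟨g, hgN⟩
  have e2 : Cfsg.centralChar χ'.1 g = Cfsg.inducedCentralChar N θ'.1 g :=
    centralChar_eq_induced_of_constituent N χ' θ' h2 ⟨g, hgN⟩
  rw [e1, e2]
  exact memLocalIdeal_inducedCentralChar_sub hMp N θ.1 θ'.1 (isClassFunction_irr θ)
    (isClassFunction_irr θ') hsb g

/-- if `p ∤ |N|`, characters of `G` in the same block have the same constituents on `N` -/
theorem constituent_of_sameBlock_pPrime (hM : Cfsg.IsPModular p M) (hpN : ¬ p ∣ Nat.card N)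
    {χ ψ : Cfsg.IrrCharacter G} (h : Cfsg.SameBlock M χ.1 ψ.1) (θ : Cfsg.IrrCharacter N)
    (hθ : Cfsg.classInner (fun n : N => χ.1 n) θ.1 ≠ 0) :
    Cfsg.classInner (fun n : N => ψ.1 n) θ.1 ≠ 0 := by
  classical
  have hMp := isPModular_isPrime hM
  obtain ⟨θ₁, hθ₁⟩ := exists_constituent_restrict N ψ
  have hwR : (conjOrb N θ₁).indicator (fun _ => (1:ℂ)) ∈ osimaRing N M hMp := by
    apply mem_osimaRing_of_pPrime N hM hpN
    intro ξ
    by_cases hξ : ξ ∈ conjOrb N θ₁
    · rw [Set.indicator_of_mem hξ]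
      exact memLocalRing_one hMp.ne_top
    · rw [Set.indicator_of_notMem hξ]
      exact memLocalRing_zero hMp.ne_top
  have hsub := memLocalIdeal_sub_of_induced N hMp _ (conjOrb_indicator_inv N θ₁) hwR θ θ₁ (by
    intro n
    rw [← centralChar_eq_induced_of_constituent N χ θ hθ n,
      ← centralChar_eq_induced_of_constituent N ψ θ₁ hθ₁ n]
    exact h n)
  rw [Set.indicator_of_mem (self_mem_conjOrb N θ₁)] at hsub
  have hθU : θ ∈ conjOrb N θ₁ := by
    by_contra hn
    rw [Set.indicator_of_notMem hn, zero_sub] at hsub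
    have := memLocalIdeal_neg hsub
    rw [neg_neg] at this
    exact not_memLocalIdeal_one hMp this
  obtain ⟨g, rfl⟩ := hθU
  rw [constituent_conjIrr]
  exact hθ₁

end cover2

end Cfsg.Agent.Lib.helper5
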