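import Mathlib
import Cfsg.Agent.Lib.helper5.BlockCover
import Cfsg.Agent.Lib.helper5.BlockHeight
import Cfsg.Agent.Lib.helper5.BlockDefect2
import Cfsg.Agent.Lib.helper3.Basic
import Cfsg.Agent.S0840

set_option autoImplicit false

/-!
# Tools for Fong's theorem on covering blocks

* `fac_le_defect_of_coeff`, `defect_le_fac_of_centralChar`: numerical forms of the min–max theorem.
* `sum_eq_card_mul_sum_quotient`: summing a right `K`-invariant function over the group.
* `inducedCentralChar_congr`: for `θ` in a `G`-invariant block of the normal subgroup `N`,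
  the induced central character at `x ∈ N` is congruent to `|G : N C_G(x)| ω_θ(x)`.
-/

namespace Cfsg.Agent.Lib.helper5

open Cfsg.Agent.Lib.helper23 Cfsg.Agent.Lib.helper24
open scoped ComplexConjugate

universe u

section minmax

variable {G : Type u} [Group G] [Fintype G] [Fintype (Cfsg.IrrCharacter G)]
variable {M : Ideal Cfsg.AlgInt} {p : ℕ} [Fact p.Prime]

/-- min–max (a): a nonzero idempotent coefficient at `v` bounds the `p`-part of `|C(v)|` by the
defect -/
theorem fac_le_defect_of_coeff (hM : Cfsg.IsPModular p M) (χ₀ : Cfsg.IrrCharacter G) (v : G)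
    (hv : ¬ Cfsg.MemLocalIdeal M (Cfsg.blockCoeff (Cfsg.blockOf M χ₀.1) v)) :
    (Nat.card (Subgroup.centralizer ({v} : Set G))).factorization p
      ≤ Cfsg.blockDefect p (Cfsg.blockOf M χ₀.1) := by
  have hMp := isPModular_isPrime hM
  have hp : p.Prime := Fact.out
  obtain ⟨g, hg⟩ := exists_defectClass hMp χ₀
  obtain ⟨Du⟩ : Nonempty (Sylow p (Subgroup.centralizer ({g} : Set G))) := inferInstance
  obtain ⟨Dv⟩ : Nonempty (Sylow p (Subgroup.centralizer ({v} : Set G))) := inferInstance
  obtain ⟨x, hx⟩ := key_sylow hM χ₀ g v (hg.2.2 χ₀ (mem_blockOf_self hMp.ne_top χ₀)) hv Du Dv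
  have hcard := Subgroup.card_dvd_of_le hx
  rw [card_sylow_map, card_map_conj, card_sylow_map] at hcard
  rw [← defect_class_factorization hM χ₀ g hg]
  exact (Nat.pow_dvd_pow_iff_le_right hp.one_lt).mp hcard

/-- min–max (b): a nonzero central character value at `u` bounds the defect by the `p`-part of
`|C(u)|` -/
theorem defect_le_fac_of_centralChar (hM : Cfsg.IsPModular p M) (χ₀ : Cfsg.IrrCharacter G) (u : G)
    (hu : ¬ Cfsg.MemLocalIdeal M (Cfsg.centralChar χ₀.1 u)) :
    Cfsg.blockDefect p (Cfsg.blockOf M χ₀.1)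
      ≤ (Nat.card (Subgroup.centralizer ({u} : Set G))).factorization p := by
  have hMp := isPModular_isPrime hM
  have hp : p.Prime := Fact.out
  obtain ⟨g, hg⟩ := exists_defectClass hMp χ₀
  obtain ⟨Du⟩ : Nonempty (Sylow p (Subgroup.centralizer ({u} : Set G))) := inferInstance
  obtain ⟨Dv⟩ : Nonempty (Sylow p (Subgroup.centralizer ({g} : Set G))) := inferInstance
  obtain ⟨x, hx⟩ := key_sylow hM χ₀ u g hu hg.2.1 Du Dv
  have hcard := Subgroup.card_dvd_of_le hx
  rw [card_sylow_map, card_map_conj, card_sylow_map] at hcard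
  rw [← defect_class_factorization hM χ₀ g hg]
  exact (Nat.pow_dvd_pow_iff_le_right hp.one_lt).mp hcard

end minmax

section cosets

variable {G : Type u} [Group G] [Fintype G]

/-- the sum over the group of a function invariant under right multiplication by `K` -/
theorem sum_eq_card_mul_sum_quotient (K : Subgroup G) [Fintype (G ⧸ K)] (f : G → ℂ)
    (hf : ∀ g : G, ∀ k ∈ K, f (g * k) = f g) :
    ∑ g : G, f g = (Nat.card K : ℂ) * ∑ q : G ⧸ K, f q.out := by
  classical
  have : Fintype K := Fintype.ofFinite K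
  rw [← Finset.sum_fiberwise (Finset.univ : Finset G) (fun g => (QuotientGroup.mk g : G ⧸ K)) f,
    Finset.mul_sum]
  apply Finset.sum_congr rfl
  intro q _
  have h1 : ∑ g ∈ Finset.univ.filter (fun g : G => (QuotientGroup.mk g : G ⧸ K) = q), f g
      = ∑ k : K, f (q.out * (k : G)) := by
    symm
    apply Finset.sum_bij (fun (k : K) _ => q.out * (k : G))
    · intro k _
      rw [Finset.mem_filter]
      refine ⟨Finset.mem_univ _, ?_⟩
      rw [QuotientGroup.mk_mul_of_mem _ k.2]
      exact QuotientGroup.out_eq' q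
    · intro k₁ _ k₂ _ h
      exact Subtype.ext (mul_left_cancel h)
    · intro g hg
      rw [Finset.mem_filter] at hg
      have : (q.out)⁻¹ * g ∈ K := by
        rw [← QuotientGroup.eq, QuotientGroup.out_eq']
        exact hg.2.symm
      exact ⟨⟨_, this⟩, Finset.mem_univ _, by simp⟩
    · intro k _
      rfl
  rw [h1]
  simp only [hf _ _ (Subtype.mem _)]
  rw [Finset.sum_const, Finset.card_univ, nsmul_eq_mul, Nat.card_eq_fintype_card]

end cosets

section induced

open scoped Pointwise

variable {G : Type u} [Group G] [Fintype G] [Fintype (Cfsg.IrrCharacter G)]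
variable (N : Subgroup G) [hN : N.Normal] [Fintype N] [Fintype (Cfsg.IrrCharacter N)]
variable {M : Ideal Cfsg.AlgInt} {p : ℕ} [Fact p.Prime]

omit [Fintype G] [Fintype (Cfsg.IrrCharacter G)] [Fintype N] [Fintype (Cfsg.IrrCharacter N)] hN in
/-- the centralizer in `N` of an element of `N` -/
theorem centralizer_subgroup_eq (x : N) :
    Subgroup.centralizer ({x} : Set N)
      = (Subgroup.centralizer ({(x : G)} : Set G)).subgroupOf N := by
  ext n
  rw [Subgroup.mem_subgroupOf, mem_centralizer_singleton_comm, mem_centralizer_singleton_comm]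
  constructor
  · intro h
    exact congrArg Subtype.val h
  · intro h
    exact Subtype.ext h

omit [Fintype (Cfsg.IrrCharacter G)] [Fintype N] [Fintype (Cfsg.IrrCharacter N)] in
/-- `|N C_G(x)| = |N : C_N(x)| |C_G(x)|` -/
theorem card_sup_centralizer (x : N) :
    Nat.card (N ⊔ Subgroup.centralizer ({(x : G)} : Set G) : Subgroup G)
      = (Subgroup.centralizer ({x} : Set N)).index
          * Nat.card (Subgroup.centralizer ({(x : G)} : Set G)) := by
  have h1 := Cfsg.Agent.Lib.helper3.card_sup_mul_card_inf_of_normal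
    (Subgroup.centralizer ({(x : G)} : Set G)) N
  have h2 : Nat.card (Subgroup.centralizer ({x} : Set N))
      = Nat.card (Subgroup.centralizer ({(x : G)} : Set G) ⊓ N : Subgroup G) := by
    rw [centralizer_subgroup_eq, ← Subgroup.subgroupOf_map_subtype,
      Subgroup.card_map_of_injective N.subtype_injective]
  have h3 := Subgroup.card_mul_index (Subgroup.centralizer ({x} : Set N))
  have hpos : 0 < Nat.card (Subgroup.centralizer ({(x : G)} : Set G) ⊓ N : Subgroup G) :=
    Nat.card_pos
  rw [sup_comm] at h1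
  rw [← h3, h2] at h1
  have h4 : Nat.card (N ⊔ Subgroup.centralizer ({(x : G)} : Set G) : Subgroup G)
        * Nat.card (Subgroup.centralizer ({(x : G)} : Set G) ⊓ N : Subgroup G)
      = ((Subgroup.centralizer ({x} : Set N)).index
          * Nat.card (Subgroup.centralizer ({(x : G)} : Set G)))
        * Nat.card (Subgroup.centralizer ({(x : G)} : Set G) ⊓ N : Subgroup G) := by
    rw [h1]; ring
  exact Nat.eq_of_mul_eq_mul_right hpos h4

/-- the induced central character as a sum over cosets of `N C_G(x)` of central characters of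
conjugates -/
theorem inducedCentralChar_eq_sum_quotient (θ : Cfsg.IrrCharacter N) (x : N)
    [Fintype (G ⧸ (N ⊔ Subgroup.centralizer ({(x : G)} : Set G)))] :
    Cfsg.inducedCentralChar N θ.1 (x : G)
      = ∑ q : G ⧸ (N ⊔ Subgroup.centralizer ({(x : G)} : Set G)),
          Cfsg.centralChar (conjIrr N q.out θ).1 x := by
  classical
  have hθ1 := irr_one_ne_zero θ
  obtain ⟨f, hf⟩ : ∃ f : G → ℂ, f = fun g => θ.1 ⟨g * x * g⁻¹, hN.conj_mem x x.2 g⟩ := ⟨_, rfl⟩
  -- the sum over the group via the class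
  have hsum1 : ∑ g : G, f g
      = (Nat.card (Subgroup.centralizer ({(x : G)} : Set G)) : ℂ)
          * (θ.1 1 * Cfsg.inducedCentralChar N θ.1 (x : G)) := by
    have h := Cfsg.Agent.S0840.sum_conj_ite (x : G) (Cfsg.extendByZero N θ.1)
    have hl : ∑ s : G, Cfsg.extendByZero N θ.1 (s * (x : G) * s⁻¹) = ∑ g : G, f g := by
      apply Finset.sum_congr rfl
      intro g _
      rw [hf]
      exact extendByZero_apply_mem N _ (hN.conj_mem x x.2 g)
    rw [hl] at h
    rw [h]
    congr 1
    rw [sum_eq_sum_subgroup N (fun y => if IsConj (x : G) y then Cfsg.extendByZero N θ.1 y else 0)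
      (fun y hy => by
        show (if IsConj (x : G) y then Cfsg.extendByZero N θ.1 y else 0) = 0
        rw [extendByZero_apply_not_mem N _ hy]; simp)]
    unfold Cfsg.inducedCentralChar
    rw [finsum_mem_def, finsum_eq_sum_of_fintype, Finset.mul_sum]
    apply Finset.sum_congr rfl
    intro m _
    by_cases hc : IsConj (x : G) (m : G)
    · rw [Set.indicator_of_mem (show m ∈ {h : N | IsConj (x : G) (h : G)} from hc)]
      show (if IsConj (x : G) (m : G) then Cfsg.extendByZero N θ.1 (m : G) else 0) = _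
      rw [if_pos hc, extendByZero_apply_coe]
      field_simp
    · rw [Set.indicator_of_notMem (show m ∉ {h : N | IsConj (x : G) (h : G)} from hc)]
      show (if IsConj (x : G) (m : G) then Cfsg.extendByZero N θ.1 (m : G) else 0) = _
      rw [if_neg hc, mul_zero]
  -- invariance under `N C_G(x)`
  have hinv : ∀ g : G, ∀ k ∈ (N ⊔ Subgroup.centralizer ({(x : G)} : Set G) : Subgroup G),
      f (g * k) = f g := by
    intro g k hk
    have hk' : k ∈ ((N : Set G) * (Subgroup.centralizer ({(x : G)} : Set G) : Set G)) := by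
      rw [← Subgroup.normal_mul]
      exact hk
    obtain ⟨n, hn, c, hc, rfl⟩ := Set.mem_mul.mp hk'
    have hcx : c * (x : G) * c⁻¹ = (x : G) := by
      have := mem_centralizer_singleton_comm.mp hc
      rw [← this]; group
    rw [hf]
    show θ.1 ⟨g * (n * c) * x * (g * (n * c))⁻¹, _⟩ = θ.1 ⟨g * x * g⁻¹, _⟩
    have hcl := isClassFunction_irr θ (⟨g * x * g⁻¹, hN.conj_mem x x.2 g⟩ : N)
      (⟨g * n * g⁻¹, hN.conj_mem n hn g⟩ : N)
    rw [← hcl]
    refine congrArg θ.1 (Subtype.ext ?_)
    show g * (n * c) * (x : G) * (g * (n * c))⁻¹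
      = (g * n * g⁻¹) * (g * (x : G) * g⁻¹) * (g * n * g⁻¹)⁻¹
    calc g * (n * c) * (x : G) * (g * (n * c))⁻¹
        = g * n * (c * (x : G) * c⁻¹) * n⁻¹ * g⁻¹ := by group
      _ = g * n * (x : G) * n⁻¹ * g⁻¹ := by rw [hcx]
      _ = (g * n * g⁻¹) * (g * (x : G) * g⁻¹) * (g * n * g⁻¹)⁻¹ := by group
  have hsum2 := sum_eq_card_mul_sum_quotient
    (N ⊔ Subgroup.centralizer ({(x : G)} : Set G) : Subgroup G) f hinv
  rw [hsum1, card_sup_centralizer N x] at hsum2
  have hCne : (Nat.card (Subgroup.centralizer ({(x : G)} : Set G)) : ℂ) ≠ 0 := by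
    exact_mod_cast (Nat.card_pos (α := Subgroup.centralizer ({(x : G)} : Set G))).ne'
  have hval : ∀ g : G, Cfsg.centralChar (conjIrr N g θ).1 x
      = ((Subgroup.centralizer ({x} : Set N)).index : ℂ) * f g / θ.1 1 := by
    intro g
    unfold Cfsg.centralChar
    have e1 : (conjIrr N g θ).1 1 = θ.1 1 := by
      show θ.1 ⟨g * ((1 : N) : G) * g⁻¹, _⟩ = θ.1 1
      exact congrArg θ.1 (Subtype.ext (by simp))
    rw [e1, hf]
    rfl
  simp only [hval]
  rw [← Finset.sum_div, ← Finset.mul_sum, eq_div_iff hθ1]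
  push_cast at hsum2
  have h5 : (Nat.card (Subgroup.centralizer ({(x : G)} : Set G)) : ℂ)
        * (Cfsg.inducedCentralChar N θ.1 (x : G) * θ.1 1)
      = (Nat.card (Subgroup.centralizer ({(x : G)} : Set G)) : ℂ)
        * (((Subgroup.centralizer ({x} : Set N)).index : ℂ)
          * ∑ q : G ⧸ (N ⊔ Subgroup.centralizer ({(x : G)} : Set G)), f q.out) := by
    rw [mul_comm (Cfsg.inducedCentralChar N θ.1 (x : G)) (θ.1 1), hsum2]
    ring
  exact mul_left_cancel₀ hCne h5

omit [Fact p.Prime] in
/-- for `θ` in a `G`-invariant block of `N`, the induced central character at `x ∈ N` is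
congruent to `|G : N C_G(x)|` times the central character of `θ` -/
theorem inducedCentralChar_congr (hM : Cfsg.IsPModular p M) (θ : Cfsg.IrrCharacter N) (x : N)
    (hinv : ∀ g : G, Cfsg.SameBlock M θ.1 (conjIrr N g θ).1) :
    Cfsg.MemLocalIdeal M (Cfsg.inducedCentralChar N θ.1 (x : G)
      - ((N ⊔ Subgroup.centralizer ({(x : G)} : Set G) : Subgroup G).index : ℂ)
          * Cfsg.centralChar θ.1 x) := by
  classical
  have hMp := isPModular_isPrime hM
  have : Fintype (G ⧸ (N ⊔ Subgroup.centralizer ({(x : G)} : Set G))) := Fintype.ofFinite _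
  rw [inducedCentralChar_eq_sum_quotient N θ x]
  have h1 : ((N ⊔ Subgroup.centralizer ({(x : G)} : Set G) : Subgroup G).index : ℂ)
        * Cfsg.centralChar θ.1 x
      = ∑ _q : G ⧸ (N ⊔ Subgroup.centralizer ({(x : G)} : Set G)), Cfsg.centralChar θ.1 x := by
    rw [Finset.sum_const, Finset.card_univ, nsmul_eq_mul, Subgroup.index_eq_card,
      Nat.card_eq_fintype_card]
  rw [h1, ← Finset.sum_sub_distrib]
  apply memLocalIdeal_sum hMp
  intro q _
  have := memLocalIdeal_neg (hinv q.out x)
  rwa [neg_sub] at this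

omit [Fact p.Prime] in
/-- if the induced central character of `θ` (in a `G`-invariant block) at `x ∈ N` is not in the
local ideal, then `p ∤ |G : N C_G(x)|` and the central character of `θ` at `x` is not in the
local ideal -/
theorem of_inducedCentralChar_not_mem (hM : Cfsg.IsPModular p M) (θ : Cfsg.IrrCharacter N) (x : N)
    (hinv : ∀ g : G, Cfsg.SameBlock M θ.1 (conjIrr N g θ).1)
    (h : ¬ Cfsg.MemLocalIdeal M (Cfsg.inducedCentralChar N θ.1 (x : G))) :
    ¬ p ∣ (N ⊔ Subgroup.centralizer ({(x : G)} : Set G) : Subgroup G).index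
      ∧ ¬ Cfsg.MemLocalIdeal M (Cfsg.centralChar θ.1 x) := by
  have hMp := isPModular_isPrime hM
  have hc := inducedCentralChar_congr N hM θ x hinv
  constructor
  · intro hp
    apply h
    have h1 : Cfsg.MemLocalIdeal M
        (((N ⊔ Subgroup.centralizer ({(x : G)} : Set G) : Subgroup G).index : ℂ)
          * Cfsg.centralChar θ.1 x) :=
      memLocalIdeal_mul_right hMp ((memLocalIdeal_natCast_iff hM _).mpr hp)
        (memLocalRing_centralChar hMp θ x)
    have := memLocalIdeal_add hMp hc h1
    rwa [sub_add_cancel] at this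
  · intro hθ
    apply h
    have h1 : Cfsg.MemLocalIdeal M
        (((N ⊔ Subgroup.centralizer ({(x : G)} : Set G) : Subgroup G).index : ℂ)
          * Cfsg.centralChar θ.1 x) :=
      memLocalIdeal_mul_left hMp (memLocalRing_natCast hMp.ne_top _) hθ
    have := memLocalIdeal_add hMp hc h1
    rwa [sub_add_cancel] at this

end induced

section partition

variable {G : Type u} [Group G] [Fintype G] [Fintype (Cfsg.IrrCharacter G)]
variable {M : Ideal Cfsg.AlgInt}

/-- if a union of blocks has an idempotent coefficient outside the local ideal, so does one of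
its blocks -/
theorem exists_block_coeff_not_mem (hMp : M.IsPrime) (A : Set (Cfsg.IrrCharacter G))
    (hA : ∀ χ ∈ A, ∀ χ' : Cfsg.IrrCharacter G, Cfsg.SameBlock M χ.1 χ'.1 → χ' ∈ A) (x : G)
    (h : ¬ Cfsg.MemLocalIdeal M (Cfsg.blockCoeff A x)) :
    ∃ χ ∈ A, ¬ Cfsg.MemLocalIdeal M (Cfsg.blockCoeff (Cfsg.blockOf M χ.1) x) := by
  classical
  by_contra hcon
  push Not at hcon
  have key : ∀ n : ℕ, ∀ A : Set (Cfsg.IrrCharacter G),
      (∀ χ ∈ A, ∀ χ' : Cfsg.IrrCharacter G, Cfsg.SameBlock M χ.1 χ'.1 → χ' ∈ A) →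
      (∀ χ ∈ A, Cfsg.MemLocalIdeal M (Cfsg.blockCoeff (Cfsg.blockOf M χ.1) x)) →
      A.ncard = n →
      Cfsg.MemLocalIdeal M (Cfsg.blockCoeff A x) := by
    intro n
    induction n using Nat.strong_induction_on with
    | _ n ih =>
      intro A hA hall hcard
      by_cases hne : A.Nonempty
      · obtain ⟨χ, hχ⟩ := hne
        have hBA : Cfsg.blockOf M χ.1 ⊆ A := fun ψ hψ => hA χ hχ ψ hψ
        have hχB : χ ∈ Cfsg.blockOf M χ.1 := mem_blockOf_self hMp.ne_top χ
        have hA' : ∀ ψ ∈ A \ Cfsg.blockOf M χ.1, ∀ ψ' : Cfsg.IrrCharacter G,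
            Cfsg.SameBlock M ψ.1 ψ'.1 → ψ' ∈ A \ Cfsg.blockOf M χ.1 := by
          intro ψ hψ ψ' hsb
          refine ⟨hA ψ hψ.1 ψ' hsb, fun hψ' => hψ.2 ?_⟩
          exact sameBlock_trans hMp hψ' (sameBlock_symm hsb)
        have hlt : (A \ Cfsg.blockOf M χ.1).ncard < n := by
          rw [← hcard]
          apply Set.ncard_lt_ncard _ (Set.toFinite A)
          rw [Set.ssubset_iff_of_subset Set.diff_subset]
          exact ⟨χ, hχ, fun hmem => hmem.2 hχB⟩
        have hsplit : Cfsg.blockCoeff A x = Cfsg.blockCoeff (Cfsg.blockOf M χ.1) x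
            + Cfsg.blockCoeff (A \ Cfsg.blockOf M χ.1) x := by
          rw [← coef_indicator, ← coef_indicator, ← coef_indicator, ← coef_add]
          congr 1
          funext ψ
          by_cases h1 : ψ ∈ Cfsg.blockOf M χ.1
          · have h2 : ψ ∈ A := hBA h1
            have h3 : ψ ∉ A \ Cfsg.blockOf M χ.1 := fun h => h.2 h1
            simp [h1, h2, h3]
          · by_cases h2 : ψ ∈ A
            · have h3 : ψ ∈ A \ Cfsg.blockOf M χ.1 := ⟨h2, h1⟩
              simp [h1, h2, h3]
            · have h3 : ψ ∉ A \ Cfsg.blockOf M χ.1 := fun h => h2 h.1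
              simp [h1, h2, h3]
        rw [hsplit]
        exact memLocalIdeal_add hMp (hall χ hχ)
          (ih _ hlt (A \ Cfsg.blockOf M χ.1) hA' (fun ψ hψ => hall ψ hψ.1) rfl)
      · have hempty : A = ∅ := Set.not_nonempty_iff_eq_empty.mp hne
        rw [hempty, ← coef_indicator]
        have : ((∅ : Set (Cfsg.IrrCharacter G)).indicator (fun _ => (1 : ℂ)))
            = (0 : Cfsg.IrrCharacter G → ℂ) := by
          funext ψ; simp
        rw [this, coef_zero]
        exact memLocalIdeal_zero hMp.ne_top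
  exact h (key _ A hA hcon rfl)

end partition

section covering

variable {G : Type u} [Group G] [Fintype G] [Fintype (Cfsg.IrrCharacter G)]
variable (N : Subgroup G) [hN : N.Normal] [Fintype N] [Fintype (Cfsg.IrrCharacter N)]
variable {M : Ideal Cfsg.AlgInt}

omit [Fintype G] [Fintype (Cfsg.IrrCharacter G)] in
/-- a `G`-invariant central element of the group algebra of `N` is a class function on `G` -/
theorem isClassFunction_extend_coef (w : Cfsg.IrrCharacter N → ℂ)
    (hw : ∀ (g : G) (ψ : Cfsg.IrrCharacter N), w (conjIrr N g ψ) = w ψ) :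
    Cfsg.IsClassFunction G (Cfsg.extendByZero N (coef w)) := by
  intro g x
  by_cases hg : g ∈ N
  · rw [extendByZero_apply_mem N _ hg, extendByZero_apply_mem N _ (hN.conj_mem g hg x)]
    exact coef_conjNormal N w hw x ⟨g, hg⟩
  · have hx : x * g * x⁻¹ ∉ N := by
      intro h
      apply hg
      have h' := hN.conj_mem _ h x⁻¹
      have e : x⁻¹ * (x * g * x⁻¹) * x⁻¹⁻¹ = g := by group
      rwa [e] at h'
    rw [extendByZero_apply_not_mem N _ hg, extendByZero_apply_not_mem N _ hx]

/-- the coordinate at `χ` of a `G`-invariant central element of the group algebra of `N` is its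
coordinate at any constituent of the restriction of `χ` -/
theorem coord_extend_coef (w : Cfsg.IrrCharacter N → ℂ)
    (hw : ∀ (g : G) (ψ : Cfsg.IrrCharacter N), w (conjIrr N g ψ) = w ψ)
    (χ : Cfsg.IrrCharacter G) (θ : Cfsg.IrrCharacter N)
    (h : Cfsg.classInner (fun n : N => χ.1 n) θ.1 ≠ 0) :
    coord (Cfsg.extendByZero N (coef w)) χ = w θ := by
  classical
  have hF := isClassFunction_extend_coef N w hw
  rw [coord_eq_sum_conjClasses' _ hF χ, coord_eq_sum_induced N w hw θ]
  apply Finset.sum_congr rfl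
  intro c _
  by_cases hc : Quotient.out c ∈ N
  · have := centralChar_eq_induced_of_constituent N χ θ h ⟨_, hc⟩
    rw [show Cfsg.centralChar χ.1 (Quotient.out c)
      = Cfsg.inducedCentralChar N θ.1 (Quotient.out c) from this]
  · rw [extendByZero_apply_not_mem N _ hc, zero_mul, zero_mul]

/-- the irreducible characters of `G` lying over a set `b` of irreducible characters of `N` -/
def cov (b : Set (Cfsg.IrrCharacter N)) : Set (Cfsg.IrrCharacter G) :=
  {χ | ∃ θ ∈ b, Cfsg.classInner (fun n : N => χ.1 n) θ.1 ≠ 0}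

/-- the coordinates of the idempotent of a `G`-invariant set `b` -/
theorem coord_extend_indicator (b : Set (Cfsg.IrrCharacter N))
    (hb : ∀ (g : G) (ψ : Cfsg.IrrCharacter N), conjIrr N g ψ ∈ b ↔ ψ ∈ b) :
    coord (Cfsg.extendByZero N (coef (b.indicator (fun _ => (1 : ℂ)))))
      = (cov N b).indicator (fun _ => (1 : ℂ)) := by
  classical
  have hw : ∀ (g : G) (ψ : Cfsg.IrrCharacter N),
      b.indicator (fun _ => (1 : ℂ)) (conjIrr N g ψ) = b.indicator (fun _ => (1 : ℂ)) ψ := by
    intro g ψ
    by_cases hψ : ψ ∈ b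
    · rw [Set.indicator_of_mem hψ, Set.indicator_of_mem ((hb g ψ).mpr hψ)]
    · rw [Set.indicator_of_notMem hψ, Set.indicator_of_notMem (fun h => hψ ((hb g ψ).mp h))]
  funext χ
  obtain ⟨θ, hθ⟩ := exists_constituent_restrict N χ
  rw [coord_extend_coef N _ hw χ θ hθ]
  by_cases hθb : θ ∈ b
  · rw [Set.indicator_of_mem hθb, Set.indicator_of_mem (show χ ∈ cov N b from ⟨θ, hθb, hθ⟩)]
  · have hχ : χ ∉ cov N b := by
      rintro ⟨θ', hθ'b, hθ'⟩
      have h1 := coord_extend_coef N _ hw χ θ hθ
      have h2 := coord_extend_coef N _ hw χ θ' hθ'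
      rw [h1, Set.indicator_of_notMem hθb, Set.indicator_of_mem hθ'b] at h2
      exact zero_ne_one h2
    rw [Set.indicator_of_notMem hθb, Set.indicator_of_notMem hχ]

/-- the idempotent coefficient of the characters lying over a `G`-invariant set `b`, at an
element of `N`, is the idempotent coefficient of `b` -/
theorem blockCoeff_cov (b : Set (Cfsg.IrrCharacter N))
    (hb : ∀ (g : G) (ψ : Cfsg.IrrCharacter N), conjIrr N g ψ ∈ b ↔ ψ ∈ b) (n : N) :
    Cfsg.blockCoeff (cov N b) (n : G) = Cfsg.blockCoeff b n := by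
  classical
  have hw : ∀ (g : G) (ψ : Cfsg.IrrCharacter N),
      b.indicator (fun _ => (1 : ℂ)) (conjIrr N g ψ) = b.indicator (fun _ => (1 : ℂ)) ψ := by
    intro g ψ
    by_cases hψ : ψ ∈ b
    · rw [Set.indicator_of_mem hψ, Set.indicator_of_mem ((hb g ψ).mpr hψ)]
    · rw [Set.indicator_of_notMem hψ, Set.indicator_of_notMem (fun h => hψ ((hb g ψ).mp h))]
  rw [← coef_indicator, ← coord_extend_indicator N b hb,
    coef_coord _ (isClassFunction_extend_coef N _ hw), extendByZero_apply_coe, coef_indicator]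

/-- the characters lying over a `G`-invariant block of `N` form a union of blocks of `G` -/
theorem cov_closed (hMp : M.IsPrime) (θ₀ : Cfsg.IrrCharacter N)
    (hb : ∀ (g : G) (ψ : Cfsg.IrrCharacter N),
      conjIrr N g ψ ∈ Cfsg.blockOf M θ₀.1 ↔ ψ ∈ Cfsg.blockOf M θ₀.1)
    {χ χ' : Cfsg.IrrCharacter G} (hχ : χ ∈ cov N (Cfsg.blockOf M θ₀.1))
    (hsb : Cfsg.SameBlock M χ.1 χ'.1) : χ' ∈ cov N (Cfsg.blockOf M θ₀.1) := by
  classical
  have hw : ∀ (g : G) (ψ : Cfsg.IrrCharacter N),
      (Cfsg.blockOf M θ₀.1).indicator (fun _ => (1 : ℂ)) (conjIrr N g ψ)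
        = (Cfsg.blockOf M θ₀.1).indicator (fun _ => (1 : ℂ)) ψ := by
    intro g ψ
    by_cases hψ : ψ ∈ Cfsg.blockOf M θ₀.1
    · rw [Set.indicator_of_mem hψ, Set.indicator_of_mem ((hb g ψ).mpr hψ)]
    · rw [Set.indicator_of_notMem hψ, Set.indicator_of_notMem (fun h => hψ ((hb g ψ).mp h))]
  have hmem : coord (Cfsg.extendByZero N
      (coef ((Cfsg.blockOf M θ₀.1).indicator (fun _ => (1 : ℂ))))) ∈ osimaRing G M hMp := by
    intro g
    rw [coef_coord _ (isClassFunction_extend_coef N _ hw)]
    by_cases hg : g ∈ N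
    · rw [extendByZero_apply_mem N _ hg]
      exact indicator_mem_osimaRing hMp θ₀ _
    · rw [extendByZero_apply_not_mem N _ hg]
      exact memLocalRing_zero hMp.ne_top
  have hsub := memLocalIdeal_coord_sub hMp hmem hsb
  rw [coord_extend_indicator N _ hb] at hsub
  by_contra hχ'
  rw [Set.indicator_of_mem hχ, Set.indicator_of_notMem hχ', sub_zero] at hsub
  exact not_memLocalIdeal_one hMp hsub

end covering

end Cfsg.Agent.Lib.helper5
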