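import Mathlib

set_option autoImplicit false

namespace Cfsg.Agent.Lib.helper5.AutOrbD

open scoped commutatorElement

/-- `i ↦ a ^ i` for `i : ZMod p`. -/
def zp {G : Type*} [Group G] (a : G) (p : ℕ) (i : ZMod p) : G := a ^ i.val

/-- `i ↦ - i ^ 2 / 2` on `ZMod p`. -/
def sq (p : ℕ) (i : ZMod p) : ZMod p := -(i * i) * (2 : ZMod p)⁻¹

theorem sq_zero (p : ℕ) : sq p 0 = 0 := by simp [sq]

theorem sq_add {p : ℕ} [Fact p.Prime] (h2 : (2 : ZMod p) ≠ 0) (i j : ZMod p) :
    sq p (i + j) = sq p i + sq p j - i * j := by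
  unfold sq
  field_simp
  ring

section
variable {G : Type*} [Group G] {p : ℕ} [NeZero p]

theorem zp_natCast (a : G) (h : a ^ p = 1) (k : ℕ) : zp a p (k : ZMod p) = a ^ k := by
  unfold zp
  rw [ZMod.val_natCast]
  exact (pow_eq_pow_mod k h).symm

theorem zp_add (a : G) (h : a ^ p = 1) (i j : ZMod p) : zp a p (i + j) = zp a p i * zp a p j := by
  have hi := ZMod.natCast_zmod_val i
  have hj := ZMod.natCast_zmod_val j
  calc zp a p (i + j) = zp a p ((i.val + j.val : ℕ) : ZMod p) := by rw [Nat.cast_add, hi, hj]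
    _ = a ^ (i.val + j.val) := zp_natCast a h _
    _ = zp a p i * zp a p j := by rw [pow_add]; rfl

theorem zp_zero (a : G) : zp a p 0 = 1 := by
  unfold zp
  rw [ZMod.val_zero, pow_zero]

theorem zp_one (a : G) (h : a ^ p = 1) : zp a p 1 = a := by
  have := zp_natCast a h 1
  rwa [Nat.cast_one, pow_one] at this

theorem zp_neg (a : G) (h : a ^ p = 1) (i : ZMod p) : zp a p (-i) = (zp a p i)⁻¹ := by
  have := zp_add a h (-i) i
  rw [neg_add_cancel, zp_zero] at this
  exact eq_inv_of_mul_eq_one_left this.symm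

theorem zp_pow (a : G) (h : a ^ p = 1) (i : ZMod p) (n : ℕ) :
    (zp a p i) ^ n = zp a p (i * n) := by
  have hi := ZMod.natCast_zmod_val i
  calc (zp a p i) ^ n = a ^ (i.val * n) := by unfold zp; rw [pow_mul]
    _ = zp a p ((i.val * n : ℕ) : ZMod p) := (zp_natCast a h _).symm
    _ = zp a p (i * n) := by rw [Nat.cast_mul, hi]

theorem pow_val_inj (c : G) (hc : orderOf c = p) {i j : ZMod p} (h : c ^ i.val = c ^ j.val) :
    i = j := by
  apply ZMod.val_injective p
  exact pow_injOn_Iio_orderOf (by rw [Set.mem_Iio, hc]; exact ZMod.val_lt i)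
    (by rw [Set.mem_Iio, hc]; exact ZMod.val_lt j) h

theorem zp_inj (c : G) (hc : orderOf c = p) {i j : ZMod p} (h : zp c p i = zp c p j) : i = j :=
  pow_val_inj c hc h

end

section
variable {G : Type*} [Group G]

theorem comm_mul_left (hZ : ∀ a b : G, ⁅a, b⁆ ∈ Subgroup.center G) (a b y : G) :
    ⁅a * b, y⁆ = ⁅a, y⁆ * ⁅b, y⁆ := by
  have h1 : ⁅a * b, y⁆ = a * ⁅b, y⁆ * a⁻¹ * ⁅a, y⁆ := by
    simp only [commutatorElement_def]; group
  have h2 : a * ⁅b, y⁆ = ⁅b, y⁆ * a := Subgroup.mem_center_iff.mp (hZ b y) a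
  have h3 : ⁅b, y⁆ * ⁅a, y⁆ = ⁅a, y⁆ * ⁅b, y⁆ := Subgroup.mem_center_iff.mp (hZ a y) ⁅b, y⁆
  rw [h1, h2, mul_inv_cancel_right, h3]

theorem comm_mul_right (hZ : ∀ a b : G, ⁅a, b⁆ ∈ Subgroup.center G) (x a b : G) :
    ⁅x, a * b⁆ = ⁅x, a⁆ * ⁅x, b⁆ := by
  have h1 : ⁅x, a * b⁆ = ⁅x, a⁆ * (a * ⁅x, b⁆ * a⁻¹) := by
    simp only [commutatorElement_def]; group
  have h2 : a * ⁅x, b⁆ = ⁅x, b⁆ * a := Subgroup.mem_center_iff.mp (hZ x b) a
  rw [h1, h2, mul_inv_cancel_right]

theorem comm_pow_right (hZ : ∀ a b : G, ⁅a, b⁆ ∈ Subgroup.center G) (x a : G) (n : ℕ) :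
    ⁅x, a ^ n⁆ = ⁅x, a⁆ ^ n := by
  induction n with
  | zero => simp
  | succ n ih => rw [pow_succ, comm_mul_right hZ, ih, pow_succ]

theorem comm_pow_left (hZ : ∀ a b : G, ⁅a, b⁆ ∈ Subgroup.center G) (a y : G) (n : ℕ) :
    ⁅a ^ n, y⁆ = ⁅a, y⁆ ^ n := by
  induction n with
  | zero => simp
  | succ n ih => rw [pow_succ, comm_mul_left hZ, ih, pow_succ]

theorem aux (x y U V A B Cc : G) (hA : ∀ z, A * z = z * A) (hC : ∀ z, Cc * z = z * Cc)
    (hU : U * y = y * U * Cc) :
    x * y * (U * V) * (A * B * Cc) = x * U * A * (y * V * B) := by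
  symm
  have e1 : A * (y * V * B) = (y * V) * A * B := by rw [← mul_assoc, hA (y * V)]
  have e2 : Cc * V = V * Cc := hC V
  have e3 : Cc * (A * B) = (A * B) * Cc := hC (A * B)
  calc x * U * A * (y * V * B) = x * U * (A * (y * V * B)) := by group
    _ = x * U * ((y * V) * A * B) := by rw [e1]
    _ = x * (U * y) * V * (A * B) := by group
    _ = x * (y * U * Cc) * V * (A * B) := by rw [hU]
    _ = x * y * U * (Cc * V) * (A * B) := by group
    _ = x * y * U * (V * Cc) * (A * B) := by rw [e2]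
    _ = x * y * U * V * (Cc * (A * B)) := by group
    _ = x * y * U * V * ((A * B) * Cc) := by rw [e3]
    _ = x * y * (U * V) * (A * B * Cc) := by group

end

/-- (D) for S4067: in a group with central commutator subgroup of odd prime order `p`, if `u` is a
non-central element with `u ^ p = 1` and `g` does not commute with `u`, then the `Aut`-orbit of `g` has
at least `p ^ 2` elements. -/
theorem caseB_odd_orbit {G : Type*} [Group G] [Finite G] {p : ℕ} (hp : p.Prime) (hp2 : p ≠ 2)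
    (hD : Nat.card (commutator G) = p) (hDZ : commutator G ≤ Subgroup.center G) (u : G)
    (hu : u ∉ Subgroup.center G) (hup : u ^ p = 1) (g : G) (hg : ¬ Commute g u) :
    p ^ 2 ≤ Nat.card (MulAction.orbit (MulAut G) g) := by
  classical
  haveI : Fact p.Prime := ⟨hp⟩
  haveI : NeZero p := ⟨hp.ne_zero⟩
  have hmemD : ∀ a b : G, ⁅a, b⁆ ∈ commutator G := fun a b =>
    Subgroup.commutator_mem_commutator (Subgroup.mem_top a) (Subgroup.mem_top b)
  have hZ : ∀ a b : G, ⁅a, b⁆ ∈ Subgroup.center G := fun a b => hDZ (hmemD a b)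
  obtain ⟨c, hc⟩ : ∃ c : G, c = ⁅g, u⁆ := ⟨_, rfl⟩
  have hc1 : c ≠ 1 := by
    intro h
    rw [hc] at h
    exact hg (commutatorElement_eq_one_iff_commute.mp h)
  have hcD : c ∈ commutator G := by rw [hc]; exact hmemD g u
  have hcZ : c ∈ Subgroup.center G := hDZ hcD
  have hcp : c ^ p = 1 := by
    have h1 : (⟨c, hcD⟩ : commutator G) ^ p = 1 := by
      have := pow_card_eq_one' (G := commutator G) (x := ⟨c, hcD⟩)
      rwa [hD] at this
    exact congrArg Subtype.val h1
  have hco : orderOf c = p := orderOf_eq_prime hcp hc1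
  have hDc : ∀ d ∈ commutator G, ∃ i : ZMod p, zp c p i = d := by
    intro d hd
    have h1 : (⟨d, hd⟩ : commutator G) ∈ Subgroup.zpowers (⟨c, hcD⟩ : commutator G) :=
      mem_zpowers_of_prime_card hD (by intro h; exact hc1 (congrArg Subtype.val h))
    obtain ⟨k, hk⟩ := (Submonoid.mem_powers_iff _ _).mp (mem_powers_iff_mem_zpowers.mpr h1)
    refine ⟨(k : ZMod p), ?_⟩
    rw [zp_natCast c hcp]
    exact congrArg Subtype.val hk
  have hlam' : ∀ x : G, ∃ i : ZMod p, zp c p i = ⁅x, u⁆ := fun x => hDc _ (hmemD x u)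
  choose lam hlam using hlam'
  have hlam_mul : ∀ x y : G, lam (x * y) = lam x + lam y := by
    intro x y
    apply zp_inj c hco
    rw [hlam, zp_add c hcp, hlam, hlam, comm_mul_left hZ]
  have hlam_of_comm : ∀ x : G, Commute x u → lam x = 0 := by
    intro x hx
    apply zp_inj c hco
    rw [hlam, zp_zero]
    exact commutatorElement_eq_one_iff_commute.mpr hx
  have hlam_g : lam g = 1 := by
    apply zp_inj c hco
    rw [hlam, zp_one c hcp, hc]
  have h2ne : (2 : ZMod p) ≠ 0 := by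
    intro h
    have h' : ((2 : ℕ) : ZMod p) = 0 := by exact_mod_cast h
    have hdvd : p ∣ 2 := (ZMod.natCast_eq_zero_iff 2 p).mp h'
    have h3 := Nat.le_of_dvd (by norm_num) hdvd
    have h4 := hp.two_le
    omega
  have hcomm_c : ∀ (i : ZMod p) (y : G), zp c p i * y = y * zp c p i := by
    intro i y
    have : zp c p i ∈ Subgroup.center G := Subgroup.pow_mem _ hcZ _
    exact (Subgroup.mem_center_iff.mp this y).symm
  have hswap : ∀ (i : ZMod p) (y : G),
      zp u p i * y = y * zp u p i * zp c p (-(i * lam y)) := by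
    intro i y
    have h1 : zp u p i * y = ⁅zp u p i, y⁆ * y * zp u p i := by
      simp only [commutatorElement_def]; group
    have e1 : ⁅u, y⁆ = zp c p (-(lam y)) := by
      rw [zp_neg c hcp, hlam y, commutatorElement_inv]
    have h2 : ⁅zp u p i, y⁆ = zp c p (-(i * lam y)) := by
      show ⁅u ^ i.val, y⁆ = _
      rw [comm_pow_left hZ, e1, zp_pow c hcp, ZMod.natCast_zmod_val]
      congr 1
      ring
    rw [h1, h2, hcomm_c, mul_assoc, hcomm_c, ← mul_assoc]
  let φ : G →* G := MonoidHom.mk' (fun x => x * zp u p (lam x) * zp c p (sq p (lam x))) (by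
    intro x y
    show x * y * zp u p (lam (x * y)) * zp c p (sq p (lam (x * y))) =
      (x * zp u p (lam x) * zp c p (sq p (lam x))) * (y * zp u p (lam y) * zp c p (sq p (lam y)))
    rw [hlam_mul, zp_add u hup, sq_add h2ne, sub_eq_add_neg, zp_add c hcp, zp_add c hcp]
    exact aux x y _ _ _ _ _ (fun z => hcomm_c _ z) (fun z => hcomm_c _ z) (hswap (lam x) y))
  have hφ_apply : ∀ x, φ x = x * zp u p (lam x) * zp c p (sq p (lam x)) := fun x => rfl
  have hφ_fix : ∀ x, Commute x u → φ x = x := by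
    intro x hx
    rw [hφ_apply, hlam_of_comm x hx, sq_zero, zp_zero, zp_zero, mul_one, mul_one]
  have hφ_inj : Function.Injective φ := by
    rw [injective_iff_map_eq_one]
    intro x hx
    have hxu : Commute x u := by
      rw [hφ_apply] at hx
      have h1 := eq_inv_of_mul_eq_one_left hx
      have hx' : x = (zp c p (sq p (lam x)))⁻¹ * (zp u p (lam x))⁻¹ := by
        rw [eq_mul_inv_iff_mul_eq]; exact h1
      rw [hx']
      apply Commute.mul_left
      · exact (show Commute (zp c p (sq p (lam x))) u from hcomm_c _ u).inv_left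
      · exact (show Commute (u ^ (lam x).val) u from (Commute.refl u).pow_left _).inv_left
    rw [hφ_fix x hxu] at hx
    exact hx
  let φe : MulAut G := MulEquiv.ofBijective φ ⟨hφ_inj, Finite.injective_iff_surjective.mp hφ_inj⟩
  have hφe : ∀ x, φe x = φ x := fun x => rfl
  obtain ⟨d₀, hd₀⟩ : ∃ d₀ : G, d₀ = zp c p (sq p 1) := ⟨_, rfl⟩
  have hφg : φ g = g * u * d₀ := by
    rw [hφ_apply, hlam_g, zp_one u hup, hd₀]
  have hd₀Z : ∀ y : G, d₀ * y = y * d₀ := fun y => by rw [hd₀]; exact hcomm_c _ y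
  have hiter : ∀ t : ℕ, (φe ^ t) g = g * u ^ t * d₀ ^ t := by
    intro t
    induction t with
    | zero => simp
    | succ t ih =>
      have e := hd₀Z (u ^ t)
      calc (φe ^ (t + 1)) g = φe ((φe ^ t) g) := by rw [pow_succ', MulAut.mul_apply]
        _ = φ (g * u ^ t * d₀ ^ t) := by rw [ih, hφe]
        _ = g * u * d₀ * u ^ t * d₀ ^ t := by
            rw [map_mul, map_mul, map_pow, map_pow, hφg, hφ_fix u (Commute.refl u),
              hφ_fix d₀ (hd₀Z u)]
        _ = g * u * (d₀ * u ^ t) * d₀ ^ t := by group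
        _ = g * u * (u ^ t * d₀) * d₀ ^ t := by rw [e]
        _ = g * u ^ (t + 1) * d₀ ^ (t + 1) := by rw [pow_succ', pow_succ']; group
  have hcc : ∀ (j : ℕ) (y : G), (c ^ j)⁻¹ * y = y * (c ^ j)⁻¹ := by
    intro j y
    have h1 : Commute c y := (Subgroup.mem_center_iff.mp hcZ y).symm
    exact (h1.pow_left j).inv_left
  have himg : ∀ t j : ℕ,
      (MulAut.conj (u ^ j) * φe ^ t) g = g * u ^ t * d₀ ^ t * (c ^ j)⁻¹ := by
    intro t j
    rw [MulAut.mul_apply, hiter, MulAut.conj_apply]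
    have e1 : ⁅u ^ j, g⁆ = (c ^ j)⁻¹ := by
      rw [comm_pow_left hZ, (commutatorElement_inv g u).symm, ← hc, inv_pow]
    have hd : d₀ ^ t * (u ^ j)⁻¹ = (u ^ j)⁻¹ * d₀ ^ t :=
      (show Commute d₀ ((u ^ j)⁻¹) from hd₀Z _).pow_left t
    have e2 : u ^ j * (g * u ^ t * d₀ ^ t) * (u ^ j)⁻¹ = ⁅u ^ j, g⁆ * (g * u ^ t * d₀ ^ t) := by
      calc u ^ j * (g * u ^ t * d₀ ^ t) * (u ^ j)⁻¹
          = u ^ j * g * u ^ t * (d₀ ^ t * (u ^ j)⁻¹) := by group
        _ = u ^ j * g * u ^ t * ((u ^ j)⁻¹ * d₀ ^ t) := by rw [hd]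
        _ = ⁅u ^ j, g⁆ * (g * u ^ t * d₀ ^ t) := by
            simp only [commutatorElement_def]; group
    rw [e2, e1]
    exact hcc j _
  have hcomm_g : ∀ (a b : ℕ), ⁅g, u ^ a * d₀ ^ a * (c ^ b)⁻¹⁆ = c ^ a := by
    intro a b
    have z1 : ⁅g, d₀ ^ a⁆ = 1 := commutatorElement_eq_one_iff_commute.mpr
      ((show Commute d₀ g from hd₀Z g).pow_left a).symm
    have z2 : ⁅g, (c ^ b)⁻¹⁆ = 1 := commutatorElement_eq_one_iff_commute.mpr
      (show Commute ((c ^ b)⁻¹) g from hcc b g).symm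
    rw [comm_mul_right hZ, comm_mul_right hZ, comm_pow_right hZ g u a, z1, z2, mul_one, mul_one,
      ← hc]
  let F : ZMod p × ZMod p → MulAction.orbit (MulAut G) g := fun tj =>
    ⟨(MulAut.conj (u ^ tj.2.val) * φe ^ tj.1.val) • g, MulAction.mem_orbit g _⟩
  have hF : Function.Injective F := by
    rintro ⟨t, j⟩ ⟨t', j'⟩ h
    have h1 : (MulAut.conj (u ^ j.val) * φe ^ t.val) g =
        (MulAut.conj (u ^ j'.val) * φe ^ t'.val) g := congrArg Subtype.val h
    rw [himg, himg] at h1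
    have h1' : g * (u ^ t.val * d₀ ^ t.val * (c ^ j.val)⁻¹) =
        g * (u ^ t'.val * d₀ ^ t'.val * (c ^ j'.val)⁻¹) := by
      simp only [← mul_assoc]; exact h1
    have h2 := mul_left_cancel h1'
    have h3 : c ^ t.val = c ^ t'.val := by
      rw [← hcomm_g t.val j.val, ← hcomm_g t'.val j'.val, h2]
    have ht : t = t' := pow_val_inj c hco h3
    subst ht
    have h4 : c ^ j.val = c ^ j'.val := inv_injective (mul_left_cancel h2)
    have hj : j = j' := pow_val_inj c hco h4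
    rw [hj]
  have hcard := Nat.card_le_card_of_injective F hF
  rw [Nat.card_prod, Nat.card_zmod] at hcard
  rw [pow_two]
  exact hcard

end Cfsg.Agent.Lib.helper5.AutOrbD
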