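import Mathlib
import Cfsg.Agent.Lib.helper5.BlockReg
import Cfsg.Agent.Lib.helper5.BlockHeight
import Cfsg.Agent.Lib.helper5.BlockDefect2
import Cfsg.Agent.Lib.helper5.BlockSecond3
import Cfsg.Agent.Lib.helper23.DefectZero
import Cfsg.Agent.Lib.helper22.CliffDeg

set_option autoImplicit false

/-!
# The canonical character of a block with normal defect group

* `isPPart_mem_zpowers`: the `p`-part of `g` is a power of `g`.
* `pPart_mem_of_quotient_regular`: if the image of `x` in `L ⧸ N` is `p`-regular, the `p`-part of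
  `x` lies in `N`.
* `exists_canonical_char`: a block with a normal defect group `P` contains a character with `P`
  in its kernel vanishing at all elements whose image modulo `P` is `p`-singular.
-/

namespace Cfsg.Agent.Lib.helper5

open Cfsg.Agent.Lib.helper23 Cfsg.Agent.Lib.helper24
open scoped ComplexConjugate

universe u

section canon

variable {G : Type u} [Group G]

/-- the `p`-part of an element is a power of it -/
theorem isPPart_mem_zpowers {p : ℕ} [Fact p.Prime] {g x : G} (h : Cfsg.IsPPart p g x) :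
    x ∈ Subgroup.zpowers g := by
  have hp : p.Prime := Fact.out
  obtain ⟨y, hxy, hc, ⟨k, hk⟩, hy⟩ := h
  have hcop : Nat.Coprime (orderOf y) (orderOf x) := by
    rw [hk]
    exact Nat.Coprime.pow_right k ((Nat.Prime.coprime_iff_not_dvd hp).mpr hy).symm
  have h1 : g ^ (orderOf y) = x ^ (orderOf y) := by
    rw [← hxy, hc.mul_pow, pow_orderOf_eq_one, mul_one]
  obtain ⟨m, hm⟩ := exists_pow_eq_self_of_coprime hcop
  rw [← hm, ← h1]
  exact Subgroup.pow_mem _ (Subgroup.pow_mem _ (Subgroup.mem_zpowers g) _) _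

/-- if the image of `x` modulo the normal subgroup `N` of `L` is `p`-regular, the `p`-part of
`x` lies in `N` -/
theorem pPart_mem_of_quotient_regular {p : ℕ} [Fact p.Prime] (L : Subgroup G) (N : Subgroup L)
    [N.Normal] {x : L} {z : G} (h : Cfsg.IsPPart p (x : G) z)
    (hreg : ¬ p ∣ orderOf ((x : L ⧸ N))) : ∃ hz : z ∈ L, (⟨z, hz⟩ : L) ∈ N := by
  have hp : p.Prime := Fact.out
  have hzp := isPPart_mem_zpowers h
  obtain ⟨m, hm⟩ := Subgroup.mem_zpowers_iff.mp hzp
  obtain ⟨y, hxy, hc, ⟨k, hk⟩, hy⟩ := h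
  have hzL : z ∈ L := by
    rw [← hm]
    exact Subgroup.zpow_mem _ x.2 _
  refine ⟨hzL, ?_⟩
  have e : (⟨z, hzL⟩ : L) = x ^ m := by
    apply Subtype.ext
    rw [Subgroup.coe_zpow]
    exact hm.symm
  have ho : orderOf (⟨z, hzL⟩ : L) = p ^ k := by
    rw [← Subgroup.orderOf_coe]
    exact hk
  have h1 : orderOf (((⟨z, hzL⟩ : L) : L ⧸ N)) ∣ p ^ k := by
    rw [← ho]
    exact orderOf_map_dvd (QuotientGroup.mk' N) _
  have h2 : orderOf (((⟨z, hzL⟩ : L) : L ⧸ N)) ∣ orderOf ((x : L ⧸ N)) := by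
    apply orderOf_dvd_of_mem_zpowers
    rw [e, QuotientGroup.mk_zpow]
    exact Subgroup.zpow_mem _ (Subgroup.mem_zpowers _) _
  obtain ⟨j, hj, hj'⟩ := (Nat.dvd_prime_pow hp).mp h1
  have hj0 : j = 0 := by
    by_contra hne
    apply hreg
    refine dvd_trans ?_ h2
    rw [hj']
    exact dvd_pow_self p hne
  rw [hj0, pow_zero, orderOf_eq_one_iff] at hj'
  exact (QuotientGroup.eq_one_iff _).mp hj'

variable {M : Ideal Cfsg.AlgInt} {p : ℕ} [Fact p.Prime]

/-- a block with a normal defect group `P` contains a character with `P` in its kernel that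
vanishes at all elements whose image modulo `P` is `p`-singular -/
theorem exists_canonical_char [Finite G] (hM : Cfsg.IsPModular p M) (P : Subgroup G) [P.Normal]
    (hP : IsPGroup p P) (χ₀ : Cfsg.IrrCharacter G)
    (hdef : Cfsg.IsDefectGroup p M (Cfsg.blockOf M χ₀.1) P) :
    ∃ ξ ∈ Cfsg.blockOf M χ₀.1, (∀ u ∈ P, ξ.1 u = ξ.1 1) ∧
      ∀ x : G, p ∣ orderOf ((x : G ⧸ P)) → ξ.1 x = 0 := by
  classical
  have := Fintype.ofFinite G
  have := Fintype.ofFinite (Cfsg.IrrCharacter G)
  have hMp := isPModular_isPrime hM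
  have hp := hM.1
  obtain ⟨ξ, hξb, hξker⟩ := exists_mem_block_kernel hM P hP χ₀
  obtain ⟨ξ', hξ'irr, hξ'⟩ := isIrrCharacter_deflate P ξ.2 hξker
  refine ⟨ξ, hξb, hξker, ?_⟩
  -- the order of P
  obtain ⟨g0, hg0, PD, hPD⟩ := hdef
  have hPcard : Nat.card P = p ^ Cfsg.blockDefect p (Cfsg.blockOf M χ₀.1) := by
    rw [hPD, card_sylow_map, defect_class_factorization hM χ₀ g0 hg0]
  -- degrees
  obtain ⟨d, hd, hddvd⟩ := irr_degree_dvd_card (⟨ξ', hξ'irr⟩ : Cfsg.IrrCharacter (G ⧸ P))
  have hd' : ξ.1 1 = (d : ℂ) := by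
    rw [← hd, ← hξ' 1]
    rfl
  have hdeg : Cfsg.charDegree ξ.1 = d := by
    have h := charDegree_cast ξ
    rw [hd'] at h
    exact_mod_cast h
  have hd0 : d ≠ 0 := by
    intro h0
    have := irr_one_ne_zero ξ
    rw [hd', h0] at this
    simp at this
  have hinf : sInf ((fun χ : Cfsg.IrrCharacter G => (Cfsg.charDegree (χ : G → ℂ)).factorization p) ''
      (Cfsg.blockOf M χ₀.1)) ≤ d.factorization p := by
    rw [← hdeg]
    exact Nat.sInf_le ⟨ξ, hξb, rfl⟩
  have hdefect : Cfsg.blockDefect p (Cfsg.blockOf M χ₀.1) = (Nat.card G).factorization p -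
    sInf ((fun χ : Cfsg.IrrCharacter G => (Cfsg.charDegree (χ : G → ℂ)).factorization p) ''
      (Cfsg.blockOf M χ₀.1)) := rfl
  have hcardG : (Nat.card G).factorization p
      = (Nat.card (G ⧸ P)).factorization p + Cfsg.blockDefect p (Cfsg.blockOf M χ₀.1) := by
    rw [Subgroup.card_eq_card_quotient_mul_card_subgroup P,
      Nat.factorization_mul Nat.card_pos.ne' Nat.card_pos.ne', hPcard,
      Nat.Prime.factorization_pow hp]
    simp
  have hn : (Nat.card (G ⧸ P)).factorization p ≤ d.factorization p := by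
    omega
  intro x hx
  rw [← hξ' x]
  exact irr_vanish_of_defect_zero (⟨ξ', hξ'irr⟩ : Cfsg.IrrCharacter (G ⧸ P)) p
    ((Nat.card (G ⧸ P)).factorization p) hp
    (Nat.pow_succ_factorization_not_dvd Nat.card_pos.ne' hp) d hd
    ((hp.pow_dvd_iff_le_factorization hd0).mpr hn) hddvd _ hx

end canon

end Cfsg.Agent.Lib.helper5
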