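import Mathlib
import Cfsg.Agent.Lib.helper5.BlockCanon
import Cfsg.Agent.Lib.helper5.BlockFong
import Cfsg.Agent.Lib.helper5.BlockSecond2
import Cfsg.Agent.Lib.helper24.CharProd
import Cfsg.Agent.Lib.helper24.CharComplete
import Cfsg.Agent.Lib.helper23.BrauerFeit
import Cfsg.Agent.Lib.helper23.CentralDefect
import Cfsg.Agent.Lib.helper22.CharZ

set_option autoImplicit false

/-!
# Groups of the form `G = P C_G(P)`

* `mulHomPC`, `exists_prod_decomp`: every irreducible character of `G = P C_G(P)` factorizes as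
  `χ (a c) = η a * ψ c`.
* `pRegular_mem_centralizer`: `p`-regular elements lie in `C_G(P)`.
* `sum_reg_le`, `nInt_sq_le`, `card_le_sum_sq`: Cauchy–Schwarz estimates for the integers
  `[ptrunc θ, χ]`.
* `eq_of_central_char_eq`: characters of a block with central defect group are determined by
  their central character on the defect group.
-/

namespace Cfsg.Agent.Lib.helper5

open Cfsg.Agent.Lib.helper23 Cfsg.Agent.Lib.helper24
open scoped ComplexConjugate

universe u

section cprod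

variable {G : Type u} [Group G]

/-- multiplication `P × C_G(P) → G` -/
def mulHomPC (P : Subgroup G) : P × Subgroup.centralizer (P : Set G) →* G where
  toFun x := (x.1 : G) * (x.2 : G)
  map_one' := by simp
  map_mul' x y := by
    have h : (y.1 : G) * (x.2 : G) = (x.2 : G) * (y.1 : G) :=
      Subgroup.mem_centralizer_iff.mp x.2.2 y.1 y.1.2
    simp only [Prod.fst_mul, Prod.snd_mul, Subgroup.coe_mul]
    calc (x.1 : G) * y.1 * (x.2 * y.2) = x.1 * (y.1 * x.2) * y.2 := by group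
      _ = x.1 * (x.2 * y.1) * y.2 := by rw [h]
      _ = _ := by group

theorem mulHomPC_apply (P : Subgroup G) (x : P × Subgroup.centralizer (P : Set G)) :
    mulHomPC P x = (x.1 : G) * (x.2 : G) := rfl

theorem mulHomPC_surjective (P : Subgroup G)
    (hG : P ⊔ Subgroup.centralizer (P : Set G) = ⊤) : Function.Surjective (mulHomPC P) := by
  rw [← MonoidHom.range_eq_top, eq_top_iff, ← hG]
  apply sup_le
  · intro a ha
    exact ⟨(⟨a, ha⟩, 1), by simp [mulHomPC_apply]⟩
  · intro c hc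
    exact ⟨(1, ⟨c, hc⟩), by simp [mulHomPC_apply]⟩

/-- every irreducible character of `G = P C_G(P)` factorizes -/
theorem exists_prod_decomp [Finite G] (P : Subgroup G)
    (hG : P ⊔ Subgroup.centralizer (P : Set G) = ⊤) (χ : Cfsg.IrrCharacter G) :
    ∃ (η : Cfsg.IrrCharacter P) (ψ : Cfsg.IrrCharacter (Subgroup.centralizer (P : Set G))),
      ∀ (a : P) (c : Subgroup.centralizer (P : Set G)),
        χ.1 ((a : G) * (c : G)) = η.1 a * ψ.1 c := by
  have h1 := isIrrCharacter_comp_surjective (mulHomPC P) (mulHomPC_surjective P hG) χ.2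
  obtain ⟨φ, ψ, hφ, hψ, h⟩ := (isIrrCharacter_prod_iff _).mp h1
  refine ⟨⟨φ, hφ⟩, ⟨ψ, hψ⟩, fun a c => ?_⟩
  have := congrFun h (a, c)
  exact this

theorem normal_of_sup_centralizer (P : Subgroup G)
    (hG : P ⊔ Subgroup.centralizer (P : Set G) = ⊤) : P.Normal := by
  rw [← Subgroup.normalizer_eq_top_iff, eq_top_iff, ← hG]
  exact sup_le Subgroup.le_normalizer (Subgroup.centralizer_le_normalizer _)

/-- the index of `C_G(P)` in `G = P C_G(P)` is a power of `p` -/
theorem index_centralizer_pow [Finite G] {p : ℕ} [Fact p.Prime] (P : Subgroup G)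
    (hP : IsPGroup p P) (hG : P ⊔ Subgroup.centralizer (P : Set G) = ⊤) :
    ∃ k : ℕ, (Subgroup.centralizer (P : Set G)).index = p ^ k := by
  have hp : p.Prime := Fact.out
  haveI := normal_of_sup_centralizer P hG
  have h1 := Cfsg.Agent.Lib.helper3.card_sup_mul_card_inf_of_normal P
    (Subgroup.centralizer (P : Set G))
  rw [hG, Subgroup.card_top,
    ← Subgroup.index_mul_card (Subgroup.centralizer (P : Set G))] at h1
  have h2 : (Subgroup.centralizer (P : Set G)).index
      * Nat.card (P ⊓ Subgroup.centralizer (P : Set G) : Subgroup G) = Nat.card P := by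
    apply Nat.eq_of_mul_eq_mul_right (Nat.card_pos (α := Subgroup.centralizer (P : Set G)))
    rw [← h1]
    ring
  obtain ⟨n, hn⟩ := IsPGroup.exists_card_eq hP
  have h3 : (Subgroup.centralizer (P : Set G)).index ∣ p ^ n := by
    rw [← hn, ← h2]
    exact Dvd.intro _ rfl
  obtain ⟨k, -, hk⟩ := (Nat.dvd_prime_pow hp).mp h3
  exact ⟨k, hk⟩

/-- `p`-regular elements of `G = P C_G(P)` centralize `P` -/
theorem pRegular_mem_centralizer [Finite G] {p : ℕ} [Fact p.Prime] (P : Subgroup G)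
    (hP : IsPGroup p P) (hG : P ⊔ Subgroup.centralizer (P : Set G) = ⊤) {g : G}
    (hg : ¬ p ∣ orderOf g) : g ∈ Subgroup.centralizer (P : Set G) := by
  have hp : p.Prime := Fact.out
  haveI := normal_of_sup_centralizer P hG
  obtain ⟨k, hk⟩ := index_centralizer_pow P hP hG
  exact mem_of_pRegular_of_index_pow (Subgroup.centralizer (P : Set G)) hp hk hg

/-- the index of `P` in `G = P C_G(P)` -/
theorem index_subgroupOf_centralizer (P : Subgroup G)
    (hG : P ⊔ Subgroup.centralizer (P : Set G) = ⊤) :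
    (P.subgroupOf (Subgroup.centralizer (P : Set G))).index = P.index := by
  haveI := normal_of_sup_centralizer P hG
  have h1 : P.relIndex (Subgroup.centralizer (P : Set G) ⊔ P)
      = P.relIndex (Subgroup.centralizer (P : Set G)) := Subgroup.relIndex_sup_right _ _
  rw [sup_comm, hG, Subgroup.relIndex_top_right] at h1
  exact h1.symm

/-- uniqueness of the decomposition `u v` with `u ∈ P` and `v ∈ C_G(P)` `p`-regular -/
theorem mul_reg_inj' {p : ℕ} [Fact p.Prime] {P : Subgroup G} (hP : IsPGroup p P) {u u' v v' : G}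
    (hu : u ∈ P) (hu' : u' ∈ P) (hv : v ∈ Subgroup.centralizer (P : Set G))
    (hv' : v' ∈ Subgroup.centralizer (P : Set G)) (hvr : ¬ p ∣ orderOf v)
    (hvr' : ¬ p ∣ orderOf v') (h : u * v = u' * v') : u = u' ∧ v = v' := by
  obtain ⟨k, hk⟩ := (IsPGroup.iff_orderOf.mp hP) ⟨u, hu⟩
  obtain ⟨k', hk'⟩ := (IsPGroup.iff_orderOf.mp hP) ⟨u', hu'⟩
  rw [Subgroup.orderOf_mk] at hk hk'
  have hc : Commute u v := (Subgroup.mem_centralizer_iff.mp hv u hu)
  have hc' : Commute u' v' := (Subgroup.mem_centralizer_iff.mp hv' u' hu')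
  have h1 : Cfsg.IsPPart p (u * v) u := isPPart_mul hc ⟨k, hk⟩ hvr
  have h2 : Cfsg.IsPPart p (u' * v') u' := isPPart_mul hc' ⟨k', hk'⟩ hvr'
  rw [h] at h1
  have h3 := isPPart_unique h1 h2
  subst h3
  exact ⟨rfl, mul_left_cancel h⟩

end cprod

section sums

variable {G : Type u} [Group G] [Fintype G]

/-- the sum of `|χ|²` over the `p`-regular elements -/
noncomputable def sReg (p : ℕ) (χ : G → ℂ) : ℝ :=
  ∑ g : G, if p ∣ orderOf g then (0 : ℝ) else Complex.normSq (χ g)

theorem sReg_nonneg (p : ℕ) (χ : G → ℂ) : 0 ≤ sReg p χ := by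
  unfold sReg
  apply Finset.sum_nonneg
  intro g _
  split_ifs
  · exact le_rfl
  · exact Complex.normSq_nonneg _

/-- for `G = P C_G(P)`: the `p`-regular part of the norm of `χ` is at most `|G : P| η(1)²` -/
theorem sum_reg_le {p : ℕ} [Fact p.Prime] (P : Subgroup G) (hP : IsPGroup p P)
    (hG : P ⊔ Subgroup.centralizer (P : Set G) = ⊤) (χ : Cfsg.IrrCharacter G)
    (η : Cfsg.IrrCharacter P)
    (hfac : ∀ (a : P) (v : G), v ∈ Subgroup.centralizer (P : Set G) →
      χ.1 ((a : G) * v) * η.1 1 = η.1 a * χ.1 v) :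
    sReg p χ.1 * (Nat.card P : ℝ) ≤ (Nat.card G : ℝ) * (Cfsg.charDegree η.1 : ℝ) ^ 2 := by
  classical
  haveI := Fintype.ofFinite P
  have hd0 : (0 : ℝ) < (Cfsg.charDegree η.1 : ℝ) := by exact_mod_cast charDegree_pos η
  -- the map (a, v) ↦ a v
  have hinj : Function.Injective
      (fun x : P × {v : G // ¬ p ∣ orderOf v} => (x.1 : G) * (x.2 : G)) := by
    rintro ⟨a, v⟩ ⟨a', v'⟩ h
    obtain ⟨h1, h2⟩ := mul_reg_inj' hP a.2 a'.2 (pRegular_mem_centralizer P hP hG v.2)
      (pRegular_mem_centralizer P hP hG v'.2) v.2 v'.2 h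
    exact Prod.ext (Subtype.ext h1) (Subtype.ext h2)
  have h1 : ∑ x : P × {v : G // ¬ p ∣ orderOf v}, Complex.normSq (χ.1 ((x.1 : G) * (x.2 : G)))
      ≤ ∑ g : G, Complex.normSq (χ.1 g) := by
    rw [← Finset.sum_image (s := Finset.univ)
      (g := fun x : P × {v : G // ¬ p ∣ orderOf v} => (x.1 : G) * (x.2 : G))
      (f := fun g => Complex.normSq (χ.1 g)) (fun x _ y _ h => hinj h)]
    exact Finset.sum_le_sum_of_subset_of_nonneg (Finset.subset_univ _)
      (fun g _ _ => Complex.normSq_nonneg _)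
  rw [Cfsg.Agent.Lib.helper22.sum_normSq_irr χ] at h1
  have h2 : ∀ x : P × {v : G // ¬ p ∣ orderOf v},
      Complex.normSq (χ.1 ((x.1 : G) * (x.2 : G))) * (Cfsg.charDegree η.1 : ℝ) ^ 2
        = Complex.normSq (η.1 x.1) * Complex.normSq (χ.1 (x.2 : G)) := by
    intro x
    have h3 := hfac x.1 x.2 (pRegular_mem_centralizer P hP hG x.2.2)
    have h4 := congrArg Complex.normSq h3
    rw [map_mul, map_mul, Cfsg.Agent.Lib.helper22.normSq_irr_one] at h4
    exact h4
  have h5 : (∑ x : P × {v : G // ¬ p ∣ orderOf v},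
      Complex.normSq (χ.1 ((x.1 : G) * (x.2 : G)))) * (Cfsg.charDegree η.1 : ℝ) ^ 2
      = (Nat.card P : ℝ) * sReg p χ.1 := by
    rw [Finset.sum_mul]
    simp only [h2]
    rw [Fintype.sum_prod_type]
    simp only [← Finset.mul_sum]
    rw [← Finset.sum_mul, Cfsg.Agent.Lib.helper22.sum_normSq_irr η]
    congr 1
    unfold sReg
    rw [← Finset.sum_subtype (Finset.univ.filter fun v : G => ¬ p ∣ orderOf v)
      (by simp) (fun v => Complex.normSq (χ.1 v)), Finset.sum_filter]
    apply Finset.sum_congr rfl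
    intro g _
    by_cases hg : p ∣ orderOf g
    · rw [if_pos hg, if_neg (not_not.mpr hg)]
    · rw [if_neg hg, if_pos hg]
  calc sReg p χ.1 * (Nat.card P : ℝ) = (Nat.card P : ℝ) * sReg p χ.1 := mul_comm _ _
    _ = _ := h5.symm
    _ ≤ (Nat.card G : ℝ) * (Cfsg.charDegree η.1 : ℝ) ^ 2 :=
        mul_le_mul_of_nonneg_right h1 (sq_nonneg _)

/-- Cauchy–Schwarz for the integers `[ptrunc θ, χ]` -/
theorem nInt_sq_le (p : ℕ) [Fact p.Prime] (θ χ : Cfsg.IrrCharacter G) :
    (Nat.card G : ℝ) ^ 2 * ((nInt p θ χ : ℤ) : ℝ) ^ 2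
      ≤ ((p ^ (Nat.card G).factorization p : ℕ) : ℝ) ^ 2 * (sReg p θ.1 * sReg p χ.1) := by
  classical
  have h1 := card_mul_inner_ptrunc p θ.1 χ.1
  rw [nInt_spec] at h1
  have h2 := congrArg (fun z : ℂ => ‖z‖) h1
  simp only [norm_mul, Complex.norm_natCast, Complex.norm_intCast] at h2
  have h3 : ‖∑ g : G, if p ∣ orderOf g then (0 : ℂ) else θ.1 g * conj (χ.1 g)‖
      ≤ ∑ g : G, (if p ∣ orderOf g then (0 : ℝ) else ‖θ.1 g‖)
          * (if p ∣ orderOf g then (0 : ℝ) else ‖χ.1 g‖) := by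
    refine (norm_sum_le _ _).trans (le_of_eq ?_)
    apply Finset.sum_congr rfl
    intro g _
    split_ifs
    · simp
    · rw [norm_mul, RCLike.norm_conj]
  have h4 := Finset.sum_mul_sq_le_sq_mul_sq Finset.univ
    (fun g : G => if p ∣ orderOf g then (0 : ℝ) else ‖θ.1 g‖)
    (fun g : G => if p ∣ orderOf g then (0 : ℝ) else ‖χ.1 g‖)
  have h5 : ∀ ξ : G → ℂ, ∑ g : G, (if p ∣ orderOf g then (0 : ℝ) else ‖ξ g‖) ^ 2 = sReg p ξ := by
    intro ξ
    unfold sReg
    apply Finset.sum_congr rfl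
    intro g _
    split_ifs
    · simp
    · rw [Complex.normSq_eq_norm_sq]
  rw [h5, h5] at h4
  have h6 : ‖∑ g : G, if p ∣ orderOf g then (0 : ℂ) else θ.1 g * conj (χ.1 g)‖ ^ 2
      ≤ sReg p θ.1 * sReg p χ.1 := by
    refine le_trans ?_ h4
    exact pow_le_pow_left₀ (norm_nonneg _) h3 2
  have h7 : (Nat.card G : ℝ) ^ 2 * ((nInt p θ χ : ℤ) : ℝ) ^ 2
      = ((p ^ (Nat.card G).factorization p : ℕ) : ℝ) ^ 2
        * ‖∑ g : G, if p ∣ orderOf g then (0 : ℂ) else θ.1 g * conj (χ.1 g)‖ ^ 2 := by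
    rw [← mul_pow, ← mul_pow, ← h2, mul_pow, mul_pow, sq_abs]
  rw [h7]
  exact mul_le_mul_of_nonneg_left h6 (sq_nonneg _)

end sums

section lower

variable {G : Type u} [Group G] [Fintype G] [Fintype (Cfsg.IrrCharacter G)]
variable {M : Ideal Cfsg.AlgInt} {p : ℕ} [Fact p.Prime]

/-- a lower bound for a weighted count of a block from Parseval's identity for `[ptrunc θ, ·]` -/
theorem card_le_sum_sq (hM : Cfsg.IsPModular p M) (χ₀ θ : Cfsg.IrrCharacter G)
    (hθ : θ ∈ Cfsg.blockOf M χ₀.1) (d : ℕ)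
    (hd : (Cfsg.charDegree θ.1).factorization p + d = (Nat.card G).factorization p)
    (w : Cfsg.IrrCharacter G → ℕ)
    (hw : ∀ χ ∈ Cfsg.blockOf M χ₀.1, ((nInt p θ χ : ℤ) : ℝ) ^ 2 * ((p ^ d : ℕ) : ℝ) ^ 2
      ≤ ((p ^ (Nat.card G).factorization p : ℕ) : ℝ) ^ 2 * (w χ : ℝ) ^ 2) :
    ((p ^ d : ℕ) : ℝ) ≤ ∑ χ : Cfsg.IrrCharacter G,
      (haveI := Classical.dec (χ ∈ Cfsg.blockOf M χ₀.1);
        if χ ∈ Cfsg.blockOf M χ₀.1 then (w χ : ℝ) ^ 2 else 0) := by
  classical
  have hp : p.Prime := Fact.out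
  have hp0 : (0 : ℝ) < (p : ℝ) := by exact_mod_cast hp.pos
  have hpar := nInt_parseval p θ
  have hzero : ∀ χ : Cfsg.IrrCharacter G, χ ∉ Cfsg.blockOf M χ₀.1 → nInt p θ χ = 0 := by
    intro χ hχ
    have h1 := inner_ptrunc_eq_zero_of_not_mem hM χ₀ θ χ hθ hχ
    rw [nInt_spec] at h1
    exact_mod_cast h1
  have hself : (p : ℤ) ^ (Cfsg.charDegree θ.1).factorization p ≤ nInt p θ θ :=
    Int.le_of_dvd (nInt_self_bounds p θ).1
      (pow_dvd_inner_ptrunc p θ θ (nInt p θ θ) (nInt_spec p θ θ))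
  have hparR : ∑ χ : Cfsg.IrrCharacter G, ((nInt p θ χ : ℤ) : ℝ) ^ 2
      = (p : ℝ) ^ (Nat.card G).factorization p * ((nInt p θ θ : ℤ) : ℝ) := by
    exact_mod_cast hpar
  have hselfR : (p : ℝ) ^ (Cfsg.charDegree θ.1).factorization p ≤ ((nInt p θ θ : ℤ) : ℝ) := by
    exact_mod_cast hself
  have h1 : ∑ χ : Cfsg.IrrCharacter G, ((nInt p θ χ : ℤ) : ℝ) ^ 2 * ((p ^ d : ℕ) : ℝ) ^ 2
      ≤ ∑ χ : Cfsg.IrrCharacter G, ((p ^ (Nat.card G).factorization p : ℕ) : ℝ) ^ 2
          * (if χ ∈ Cfsg.blockOf M χ₀.1 then (w χ : ℝ) ^ 2 else 0) := by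
    apply Finset.sum_le_sum
    intro χ _
    by_cases hχ : χ ∈ Cfsg.blockOf M χ₀.1
    · rw [if_pos hχ]
      exact hw χ hχ
    · rw [if_neg hχ, hzero χ hχ]
      simp
  rw [← Finset.sum_mul, ← Finset.mul_sum, hparR] at h1
  have h2 : (p : ℝ) ^ (Nat.card G).factorization p
      * (p : ℝ) ^ (Cfsg.charDegree θ.1).factorization p * ((p ^ d : ℕ) : ℝ) ^ 2
      ≤ ((p ^ (Nat.card G).factorization p : ℕ) : ℝ) ^ 2
        * ∑ χ : Cfsg.IrrCharacter G,
          (if χ ∈ Cfsg.blockOf M χ₀.1 then (w χ : ℝ) ^ 2 else 0) := by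
    refine le_trans ?_ h1
    apply mul_le_mul_of_nonneg_right _ (sq_nonneg _)
    exact mul_le_mul_of_nonneg_left hselfR (pow_nonneg hp0.le _)
  have h3 : (p : ℝ) ^ (Nat.card G).factorization p
      * (p : ℝ) ^ (Cfsg.charDegree θ.1).factorization p * ((p ^ d : ℕ) : ℝ) ^ 2
      = ((p ^ (Nat.card G).factorization p : ℕ) : ℝ) ^ 2 * ((p ^ d : ℕ) : ℝ) := by
    rw [← hd]
    push_cast
    ring
  rw [h3] at h2
  have hpos : (0 : ℝ) < ((p ^ (Nat.card G).factorization p : ℕ) : ℝ) ^ 2 := by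
    apply pow_pos
    exact_mod_cast Nat.pos_of_ne_zero (pow_ne_zero _ hp.ne_zero)
  convert le_of_mul_le_mul_left h2 hpos

/-- characters of a block with central defect group `D` are determined by their central
characters on `D` -/
theorem eq_of_central_char_eq (hM : Cfsg.IsPModular p M) (D : Subgroup G) (hD : IsPGroup p D)
    (hDZ : D ≤ Subgroup.center G) (ψ₀ : Cfsg.IrrCharacter G)
    (hdeg : (Cfsg.charDegree ψ₀.1).factorization p = D.index.factorization p)
    (ψ ψ' : Cfsg.IrrCharacter G) (hψ : ψ ∈ Cfsg.blockOf M ψ₀.1) (hψ' : ψ' ∈ Cfsg.blockOf M ψ₀.1)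
    (hc : ∀ z ∈ D, ∃ c : ℂ, (∀ g, ψ.1 (z * g) = c * ψ.1 g) ∧ (∀ g, ψ'.1 (z * g) = c * ψ'.1 g)) :
    ψ = ψ' := by
  classical
  have hp : p.Prime := Fact.out
  have hMp := isPModular_isPrime hM
  have hB : Cfsg.IsPBlock M (Cfsg.blockOf M ψ₀.1) := ⟨ψ₀, rfl⟩
  have hdefgrp := (laradji_central p M hM D hD hDZ ψ₀ hdeg).1
  have hcardD := card_defectGroup p hM _ hB D hdefgrp
  obtain ⟨ν₀, hν₀, hht, -⟩ := block_nu p hM _ hB
  have hidx : D.index.factorization p + Cfsg.blockDefect p (Cfsg.blockOf M ψ₀.1)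
      = (Nat.card G).factorization p := by
    rw [← Subgroup.index_mul_card D,
      Nat.factorization_mul Subgroup.index_ne_zero_of_finite Nat.card_pos.ne', hcardD,
      Nat.Prime.factorization_pow hp]
    simp
  have hle : ∀ ξ : Cfsg.IrrCharacter G,
      (Cfsg.charDegree ξ.1).factorization p ≤ D.index.factorization p := by
    intro ξ
    have h1 : Cfsg.charDegree ξ.1 ∣ D.index :=
      (Cfsg.Agent.Lib.helper22.charDegree_dvd_index_center ξ).trans
        (Subgroup.index_dvd_of_le hDZ)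
    exact (Nat.factorization_le_iff_dvd (charDegree_pos ξ).ne'
      Subgroup.index_ne_zero_of_finite).mpr h1 p
  have hheight : Cfsg.blockHeight p (Cfsg.blockOf M ψ₀.1) ψ.1 = 0 := by
    have h1 := hht ψ hψ
    have h2 := hle ψ
    omega
  have hdegψ : (Cfsg.charDegree ψ.1).factorization p = D.index.factorization p := by
    have h1 := hht ψ hψ
    omega
  have hne := (nInt_of_height_zero p hM _ hB ψ ψ' hψ hψ' hheight).1
  by_contra hneq
  apply hne
  have horth : ∑ g : G, ψ.1 g * conj (ψ'.1 g) = 0 := by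
    rw [sum_mul_conj_eq_classInner, irr_inner_ne hneq, mul_zero]
  have hvan := (central_defect_core p D hD hDZ ψ hdegψ).2
  haveI := Fintype.ofFinite D
  -- the sum over D × Reg
  have hinj : Function.Injective
      (fun x : D × {s : G // ¬ p ∣ orderOf s} => (x.1 : G) * (x.2 : G)) := by
    rintro ⟨a, v⟩ ⟨a', v'⟩ h
    obtain ⟨h1, h2⟩ := central_mul_reg_inj p hD hDZ a.2 a'.2 v.2 v'.2 h
    exact Prod.ext (Subtype.ext h1) (Subtype.ext h2)
  have hsum : ∑ x : D × {s : G // ¬ p ∣ orderOf s},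
      ψ.1 ((x.1 : G) * (x.2 : G)) * conj (ψ'.1 ((x.1 : G) * (x.2 : G)))
      = ∑ g : G, ψ.1 g * conj (ψ'.1 g) := by
    apply Fintype.sum_of_injective _ hinj
    · intro g hg
      rw [hvan g, zero_mul]
      rintro ⟨u, hu, s, hs, rfl⟩
      exact hg ⟨(⟨u, hu⟩, ⟨s, hs⟩), rfl⟩
    · intro x
      rfl
  have hterm : ∀ x : D × {s : G // ¬ p ∣ orderOf s},
      ψ.1 ((x.1 : G) * (x.2 : G)) * conj (ψ'.1 ((x.1 : G) * (x.2 : G)))
        = ψ.1 (x.2 : G) * conj (ψ'.1 (x.2 : G)) := by
    intro x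
    obtain ⟨c, hc1, hc2⟩ := hc x.1 x.1.2
    have hcn : c * conj c = 1 := by
      have h1 := hc1 1
      rw [mul_one] at h1
      have h2 := congrArg Complex.normSq h1
      rw [map_mul, Cfsg.Agent.Lib.helper22.normSq_irr_center ψ _ (hDZ x.1.2),
        Cfsg.Agent.Lib.helper22.normSq_irr_one] at h2
      have hd0 : ((Cfsg.charDegree ψ.1 : ℝ)) ^ 2 ≠ 0 := by
        have : (0 : ℝ) < (Cfsg.charDegree ψ.1 : ℝ) := by exact_mod_cast charDegree_pos ψ
        positivity
      have h3 : Complex.normSq c = 1 := by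
        have h4 : Complex.normSq c * (Cfsg.charDegree ψ.1 : ℝ) ^ 2
            = 1 * (Cfsg.charDegree ψ.1 : ℝ) ^ 2 := by rw [one_mul]; exact h2.symm
        exact mul_right_cancel₀ hd0 h4
      rw [Complex.mul_conj, h3]
      simp
    rw [hc1, hc2, map_mul]
    calc c * ψ.1 (x.2 : G) * (conj c * conj (ψ'.1 (x.2 : G)))
        = (c * conj c) * (ψ.1 (x.2 : G) * conj (ψ'.1 (x.2 : G))) := by ring
      _ = _ := by rw [hcn, one_mul]
  simp only [hterm] at hsum
  rw [Fintype.sum_prod_type] at hsum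
  simp only [Finset.sum_const, Finset.card_univ, nsmul_eq_mul] at hsum
  rw [horth] at hsum
  have hD0 : ((Fintype.card D : ℕ) : ℂ) ≠ 0 := by
    exact_mod_cast Fintype.card_ne_zero
  have hT : ∑ s : {s : G // ¬ p ∣ orderOf s}, ψ.1 (s : G) * conj (ψ'.1 (s : G)) = 0 := by
    rcases mul_eq_zero.mp hsum with h | h
    · exact absurd h hD0
    · exact h
  have hT' : ∑ g : G, (if p ∣ orderOf g then (0 : ℂ) else ψ.1 g * conj (ψ'.1 g)) = 0 := by
    have e : ∑ g : G, (if p ∣ orderOf g then (0 : ℂ) else ψ.1 g * conj (ψ'.1 g))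
        = ∑ s : {s : G // ¬ p ∣ orderOf s}, ψ.1 (s : G) * conj (ψ'.1 (s : G)) := by
      rw [← Finset.sum_subtype (Finset.univ.filter fun v : G => ¬ p ∣ orderOf v)
        (by simp) (fun v => ψ.1 v * conj (ψ'.1 v)), Finset.sum_filter]
      apply Finset.sum_congr rfl
      intro g _
      by_cases hg : p ∣ orderOf g
      · rw [if_pos hg, if_neg (not_not.mpr hg)]
      · rw [if_neg hg, if_pos hg]
    rw [e, hT]
  have h1 := card_mul_inner_ptrunc p ψ.1 ψ'.1
  rw [hT', mul_zero, nInt_spec] at h1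
  have hG0 : (Nat.card G : ℂ) ≠ 0 := by exact_mod_cast Nat.card_pos.ne'
  rcases mul_eq_zero.mp h1 with h | h
  · exact absurd h hG0
  · exact_mod_cast h

/-- the degree of a character of a block with normal defect group `P` having `P` in its
kernel -/
theorem factorization_degree_of_kernel (hM : Cfsg.IsPModular p M) (P : Subgroup G) [P.Normal]
    (χ₀ : Cfsg.IrrCharacter G) (hdef : Cfsg.IsDefectGroup p M (Cfsg.blockOf M χ₀.1) P)
    (ξ : Cfsg.IrrCharacter G) (hξb : ξ ∈ Cfsg.blockOf M χ₀.1)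
    (hξker : ∀ u ∈ P, ξ.1 u = ξ.1 1) :
    (Cfsg.charDegree ξ.1).factorization p = P.index.factorization p := by
  classical
  have hMp := isPModular_isPrime hM
  have hp := hM.1
  obtain ⟨ξ', hξ'irr, hξ'⟩ := isIrrCharacter_deflate P ξ.2 hξker
  obtain ⟨g0, hg0, PD, hPD⟩ := hdef
  have hPcard : Nat.card P = p ^ Cfsg.blockDefect p (Cfsg.blockOf M χ₀.1) := by
    rw [hPD, card_sylow_map, defect_class_factorization hM χ₀ g0 hg0]
  obtain ⟨d, hd, hddvd⟩ := irr_degree_dvd_card (⟨ξ', hξ'irr⟩ : Cfsg.IrrCharacter (G ⧸ P))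
  have hd' : ξ.1 1 = (d : ℂ) := by
    rw [← hd, ← hξ' 1]
    rfl
  have hdeg : Cfsg.charDegree ξ.1 = d := by
    have h := charDegree_cast ξ
    rw [hd'] at h
    exact_mod_cast h
  have hd0 : d ≠ 0 := by
    intro h0
    have := irr_one_ne_zero ξ
    rw [hd', h0] at this
    simp at this
  have hinf : sInf ((fun χ : Cfsg.IrrCharacter G => (Cfsg.charDegree (χ : G → ℂ)).factorization p) ''
      (Cfsg.blockOf M χ₀.1)) ≤ d.factorization p := by
    rw [← hdeg]
    exact Nat.sInf_le ⟨ξ, hξb, rfl⟩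
  have hdefect : Cfsg.blockDefect p (Cfsg.blockOf M χ₀.1) = (Nat.card G).factorization p -
    sInf ((fun χ : Cfsg.IrrCharacter G => (Cfsg.charDegree (χ : G → ℂ)).factorization p) ''
      (Cfsg.blockOf M χ₀.1)) := rfl
  have hcardG : (Nat.card G).factorization p
      = (Nat.card (G ⧸ P)).factorization p + Cfsg.blockDefect p (Cfsg.blockOf M χ₀.1) := by
    rw [Subgroup.card_eq_card_quotient_mul_card_subgroup P,
      Nat.factorization_mul Nat.card_pos.ne' Nat.card_pos.ne', hPcard,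
      Nat.Prime.factorization_pow hp]
    simp
  have hle : d.factorization p ≤ (Nat.card (G ⧸ P)).factorization p :=
    (Nat.factorization_le_iff_dvd hd0 Nat.card_pos.ne').mpr hddvd p
  rw [hdeg]
  have hidx : P.index = Nat.card (G ⧸ P) := rfl
  rw [hidx]
  omega

end lower

section count

/-- an injective map from `B` whose weights sum to at least the total weight is onto -/
theorem card_eq_of_inj_of_sum_le {α β : Type*} [Fintype α] [Fintype β] [DecidableEq β]
    (B : Set α) [DecidablePred (· ∈ B)] (f : α → β) (w : β → ℕ) (hw : ∀ b, 0 < w b)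
    (hinj : ∀ x ∈ B, ∀ y ∈ B, f x = f y → x = y)
    (hsum : ∑ b, w b ≤ ∑ x, if x ∈ B then w (f x) else 0) : Nat.card B = Fintype.card β := by
  classical
  have h1 : ∑ x, (if x ∈ B then w (f x) else 0)
      = ∑ b ∈ (Finset.univ.filter (· ∈ B)).image f, w b := by
    rw [← Finset.sum_filter, Finset.sum_image]
    intro x hx y hy h
    exact hinj x (Finset.mem_filter.mp hx).2 y (Finset.mem_filter.mp hy).2 h
  rw [h1] at hsum
  have h2 : (Finset.univ.filter (· ∈ B)).image f = Finset.univ := by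
    by_contra hne
    obtain ⟨b₀, hb₀⟩ : ∃ b₀, b₀ ∉ (Finset.univ.filter (· ∈ B)).image f := by
      by_contra hall
      push Not at hall
      exact hne (Finset.eq_univ_iff_forall.mpr hall)
    have h3 : ∑ b ∈ (Finset.univ.filter (· ∈ B)).image f, w b
        < ∑ b, w b := by
      apply Finset.sum_lt_sum_of_subset (Finset.subset_univ _) (Finset.mem_univ b₀) hb₀ (hw b₀)
      intro j _ _
      exact Nat.zero_le _
    omega
  rw [Nat.card_eq_fintype_card, Fintype.card_subtype, ← Finset.card_univ, ← h2,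
    Finset.card_image_of_injOn]
  intro x hx y hy h
  exact hinj x (Finset.mem_filter.mp hx).2 y (Finset.mem_filter.mp hy).2 h

end count

section transfer

variable {G : Type u} [Group G] [Finite G]

/-- for `c ∈ C_G(P)` in `G = P C_G(P)` the class of `c` in `C_G(P)` has the size of its class
in `G` -/
theorem index_centralizer_eq (P : Subgroup G)
    (hG : P ⊔ Subgroup.centralizer (P : Set G) = ⊤) (c : Subgroup.centralizer (P : Set G)) :
    (Subgroup.centralizer ({c} : Set (Subgroup.centralizer (P : Set G)))).index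
      = (Subgroup.centralizer ({(c : G)} : Set G)).index := by
  haveI := normal_of_sup_centralizer P hG
  rw [centralizer_subgroup_eq]
  have hPK : P ≤ Subgroup.centralizer ({(c : G)} : Set G) := by
    intro a ha
    rw [Subgroup.mem_centralizer_singleton_iff]
    exact (Subgroup.mem_centralizer_iff.mp c.2 a ha)
  have htop : Subgroup.centralizer ({(c : G)} : Set G) ⊔ Subgroup.centralizer (P : Set G) = ⊤ := by
    rw [eq_top_iff, ← hG]
    exact sup_le (hPK.trans le_sup_left) le_sup_right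
  have h1 := Cfsg.Agent.Lib.helper3.card_sup_mul_card_inf_of_normal
    (Subgroup.centralizer ({(c : G)} : Set G)) (Subgroup.centralizer (P : Set G))
  rw [htop, Subgroup.card_top] at h1
  have h2 := Subgroup.card_mul_index ((Subgroup.centralizer ({(c : G)} : Set G)).subgroupOf
    (Subgroup.centralizer (P : Set G)))
  have h3 : Nat.card ((Subgroup.centralizer ({(c : G)} : Set G)).subgroupOf
      (Subgroup.centralizer (P : Set G)))
      = Nat.card (Subgroup.centralizer ({(c : G)} : Set G) ⊓ Subgroup.centralizer (P : Set G)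
        : Subgroup G) := by
    rw [← Subgroup.subgroupOf_map_subtype,
      Subgroup.card_map_of_injective (Subgroup.subtype_injective _)]
  rw [h3] at h2
  have h4 := Subgroup.index_mul_card (Subgroup.centralizer ({(c : G)} : Set G))
  have hpos : 0 < Nat.card (Subgroup.centralizer ({(c : G)} : Set G)) * Nat.card
      (Subgroup.centralizer ({(c : G)} : Set G) ⊓ Subgroup.centralizer (P : Set G)
        : Subgroup G) := Nat.mul_pos Nat.card_pos Nat.card_pos
  apply Nat.eq_of_mul_eq_mul_right hpos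
  calc _ = Nat.card (Subgroup.centralizer ({(c : G)} : Set G)) * (Nat.card
      (Subgroup.centralizer ({(c : G)} : Set G) ⊓ Subgroup.centralizer (P : Set G)
        : Subgroup G) * ((Subgroup.centralizer ({(c : G)} : Set G)).subgroupOf
    (Subgroup.centralizer (P : Set G))).index) := by ring
    _ = Nat.card (Subgroup.centralizer ({(c : G)} : Set G))
        * Nat.card (Subgroup.centralizer (P : Set G)) := by rw [h2]
    _ = Nat.card G * Nat.card (Subgroup.centralizer ({(c : G)} : Set G)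
        ⊓ Subgroup.centralizer (P : Set G) : Subgroup G) := h1.symm
    _ = _ := by rw [← h4]; ring

/-- central characters of a factorized character on `C_G(P)` -/
theorem centralChar_prod (P : Subgroup G)
    (hG : P ⊔ Subgroup.centralizer (P : Set G) = ⊤) (χ : Cfsg.IrrCharacter G)
    (η : Cfsg.IrrCharacter P) (ψ : Cfsg.IrrCharacter (Subgroup.centralizer (P : Set G)))
    (h : ∀ (a : P) (c : Subgroup.centralizer (P : Set G)),
      χ.1 ((a : G) * (c : G)) = η.1 a * ψ.1 c) (c : Subgroup.centralizer (P : Set G)) :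
    Cfsg.centralChar ψ.1 c = Cfsg.centralChar χ.1 (c : G) := by
  unfold Cfsg.centralChar
  rw [index_centralizer_eq P hG c]
  have h1 := h 1 c
  have h2 := h 1 1
  simp only [Subgroup.coe_one, one_mul] at h1 h2
  rw [h1, h2]
  have hη : η.1 1 ≠ 0 := irr_one_ne_zero η
  have hψ : ψ.1 1 ≠ 0 := irr_one_ne_zero ψ
  field_simp

end transfer

end Cfsg.Agent.Lib.helper5
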