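import Mathlib
import Cfsg.Agent.Lib.helper5.BlockSections
import Cfsg.Agent.Lib.helper5.BlockCover
import Cfsg.Agent.Lib.helper5.BlockNormal
import Cfsg.Agent.Lib.helper23.NilpotentPrincipal

set_option autoImplicit false

/-!
# Auxiliary results on the `p`-regular rank of blocks

Transport of the rank along a group isomorphism, the rank of the principal block of a group with
a normal `p`-complement, the blocks of the centralizer of a `p`-element inducing the principal
block.
-/

namespace Cfsg.Agent.Lib.helper5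

open Cfsg.Agent.Lib.helper23 Cfsg.Agent.Lib.helper24
open scoped ComplexConjugate

universe u

section transport

variable {H₁ H₂ : Type u} [Group H₁] [Group H₂]

theorem pRegularPart_comp_equiv (p : ℕ) (e : H₁ ≃* H₂) (φ : H₂ → ℂ) :
    Cfsg.pRegularPart p (φ ∘ e) = Cfsg.pRegularPart p φ ∘ e := by
  classical
  funext h
  rw [Function.comp_apply, pRegularPart_apply, pRegularPart_apply, Function.comp_apply]
  have hiff : Cfsg.IsPRegular p (e h) ↔ Cfsg.IsPRegular p h := by
    unfold Cfsg.IsPRegular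
    rw [MulEquiv.orderOf_eq]
  by_cases hh : Cfsg.IsPRegular p h
  · rw [if_pos hh, if_pos (hiff.mpr hh)]
  · rw [if_neg hh, if_neg (fun h' => hh (hiff.mp h'))]

/-- transport of the `p`-regular rank along an isomorphism -/
theorem blockRank_comp_equiv (p : ℕ) (e : H₁ ≃* H₂) (B₁ : Set (Cfsg.IrrCharacter H₁))
    (B₂ : Set (Cfsg.IrrCharacter H₂))
    (h12 : ∀ ψ ∈ B₂, ∃ χ ∈ B₁, χ.1 = ψ.1 ∘ e) (h21 : ∀ χ ∈ B₁, ∃ ψ ∈ B₂, χ.1 = ψ.1 ∘ e) :
    Cfsg.blockRank p B₁ = Cfsg.blockRank p B₂ := by
  unfold Cfsg.blockRank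
  have hset : (fun χ : Cfsg.IrrCharacter H₁ => Cfsg.pRegularPart p (χ : H₁ → ℂ)) '' B₁
      = ((LinearEquiv.funCongrLeft ℂ ℂ e.toEquiv : (H₂ → ℂ) ≃ₗ[ℂ] (H₁ → ℂ)) :
          (H₂ → ℂ) →ₗ[ℂ] (H₁ → ℂ)) ''
        ((fun ψ : Cfsg.IrrCharacter H₂ => Cfsg.pRegularPart p (ψ : H₂ → ℂ)) '' B₂) := by
    ext f
    constructor
    · rintro ⟨χ, hχ, rfl⟩
      obtain ⟨ψ, hψ, hχψ⟩ := h21 χ hχ
      refine ⟨Cfsg.pRegularPart p ψ.1, ⟨ψ, hψ, rfl⟩, ?_⟩
      show Cfsg.pRegularPart p ψ.1 ∘ e = _
      rw [← pRegularPart_comp_equiv, ← hχψ]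
    · rintro ⟨_, ⟨ψ, hψ, rfl⟩, rfl⟩
      obtain ⟨χ, hχ, hχψ⟩ := h12 ψ hψ
      refine ⟨χ, hχ, ?_⟩
      show Cfsg.pRegularPart p χ.1 = Cfsg.pRegularPart p ψ.1 ∘ e
      rw [← pRegularPart_comp_equiv, ← hχψ]
  rw [hset, ← Submodule.map_span]
  exact LinearEquiv.finrank_map_eq _ _

/-- the rank of the principal block is invariant under isomorphism -/
theorem blockRank_principal_equiv (p : ℕ) (M : Ideal Cfsg.AlgInt) (e : H₁ ≃* H₂) :
    Cfsg.blockRank p (Cfsg.principalBlock M H₁) = Cfsg.blockRank p (Cfsg.principalBlock M H₂) := by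
  apply blockRank_comp_equiv p e
  · intro ψ hψ
    refine ⟨⟨ψ.1 ∘ e, isIrrCharacter_comp_equiv e ψ.2⟩, ?_, rfl⟩
    exact Cfsg.Agent.Lib.helper5.sameBlock_comp_equiv e hψ
  · intro χ hχ
    refine ⟨⟨χ.1 ∘ e.symm, isIrrCharacter_comp_equiv e.symm χ.2⟩, ?_, ?_⟩
    · exact Cfsg.Agent.Lib.helper5.sameBlock_comp_equiv e.symm hχ
    · funext h
      simp

end transport

section rankone

variable {M : Ideal Cfsg.AlgInt} {p : ℕ} [Fact p.Prime]

/-- the principal block of a group with a normal `p`-complement has rank one -/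
theorem blockRank_principal_eq_one (hM : Cfsg.IsPModular p M) {H : Type u} [Group H] [Finite H]
    (K : Subgroup H) [K.Normal] (hK : ¬ p ∣ Nat.card K)
    (hreg : ∀ y : H, ¬ p ∣ orderOf y → y ∈ K) :
    Cfsg.blockRank p (Cfsg.principalBlock M H) = 1 := by
  classical
  have := Fintype.ofFinite H
  have := Fintype.ofFinite (Cfsg.IrrCharacter H)
  have hMp := isPModular_isPrime hM
  have hMt := hMp.ne_top
  have ht : trivIrr H ∈ Cfsg.principalBlock M H := sameBlock_refl hMt _
  rw [blockRank_eq_one_iff p _ ht]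
  intro x hx χ hχ
  exact kernel_of_sameBlock hM K hK (show Cfsg.SameBlock M (trivIrr H).1 χ.1 from hχ)
    (fun n _ => rfl) x (hreg x hx)

/-- an element of order prime to `p` lies in every normal subgroup of `p`-power index -/
theorem mem_of_index_pow {H : Type u} [Group H] [Finite H] (K : Subgroup H) [K.Normal]
    (hK : ∃ k : ℕ, K.index = p ^ k) (y : H) (hy : ¬ p ∣ orderOf y) : y ∈ K := by
  have hp : p.Prime := Fact.out
  obtain ⟨k, hk⟩ := hK
  have h1 : orderOf (QuotientGroup.mk' K y) ∣ orderOf y := orderOf_map_dvd _ y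
  have h2 : orderOf (QuotientGroup.mk' K y) ∣ p ^ k := by
    rw [← hk, Subgroup.index_eq_card]
    exact orderOf_dvd_natCard _
  obtain ⟨j, -, hj⟩ := (Nat.dvd_prime_pow hp).mp h2
  have hj0 : j = 0 := by
    by_contra hne
    apply hy
    refine dvd_trans ?_ h1
    rw [hj]
    exact dvd_pow_self p hne
  rw [hj0, pow_zero, orderOf_eq_one_iff] at hj
  exact (QuotientGroup.eq_one_iff y).mp hj

variable {G : Type u} [Group G] [Fintype G] [Fintype (Cfsg.IrrCharacter G)]

/-- the blocks of the centralizer of a `p`-element inducing the principal block: only the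
principal block (third main theorem) -/
theorem finsum_induced_principal (hM : Cfsg.IsPModular p M) (z : G)
    (hz : ∃ k : ℕ, orderOf z = p ^ k) (F : Set (Cfsg.IrrCharacter
        ↥(Subgroup.centralizer ({z} : Set G))) → ℕ) :
    ∑ᶠ b ∈ {b : Set (Cfsg.IrrCharacter ↥(Subgroup.centralizer ({z} : Set G))) |
        Cfsg.IsInducedBlock M (Subgroup.centralizer ({z} : Set G)) b
          (Cfsg.principalBlock M G)}, F b
      = F (Cfsg.principalBlock M (Subgroup.centralizer ({z} : Set G))) := by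
  classical
  have := Fintype.ofFinite (Subgroup.centralizer ({z} : Set G))
  have := Fintype.ofFinite (Cfsg.IrrCharacter (Subgroup.centralizer ({z} : Set G)))
  have hMp := isPModular_isPrime hM
  have hMt := hMp.ne_top
  have hsec := secSet_principal hM z hz
  have hset : {b : Set (Cfsg.IrrCharacter ↥(Subgroup.centralizer ({z} : Set G))) |
        Cfsg.IsInducedBlock M (Subgroup.centralizer ({z} : Set G)) b
          (Cfsg.principalBlock M G)}
      = {Cfsg.principalBlock M (Subgroup.centralizer ({z} : Set G))} := by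
    ext b
    rw [Set.mem_ofPred_eq, Set.mem_singleton_iff]
    constructor
    · intro hb
      obtain ⟨ξ₀, hb0⟩ := hb.1
      rw [hb0] at hb ⊢
      have h1 : ξ₀ ∈ secSet M z (Cfsg.principalBlock M G) := hb
      rw [hsec] at h1
      exact blockOf_eq_of_mem hMp (χ₀ := trivIrr (Subgroup.centralizer ({z} : Set G))) h1
    · intro hb
      rw [hb]
      have h1 : trivIrr (Subgroup.centralizer ({z} : Set G))
          ∈ secSet M z (Cfsg.principalBlock M G) := by
        rw [hsec]
        exact sameBlock_refl hMt _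
      exact h1
  rw [hset, finsum_mem_singleton]

end rankone

end Cfsg.Agent.Lib.helper5
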