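import Mathlib
import Cfsg.Agent.Lib.helper24.CharLin
import Cfsg.Agent.Lib.helper24.CharReg
import Cfsg.Agent.Lib.helper24.CharComplete
import Cfsg.Agent.Lib.helper24.CharKer
import Cfsg.Agent.Lib.helper23.PTrunc2
import Cfsg.Agent.Lib.helper9.PPrimeCore

set_option autoImplicit false

/-!
# Groups with an element `u` such that `χ(1) - χ(u)` is constant or `χ(u) = 0`

* `factorization_two_of_selfCent`: a self-centralizing involution forces Sylow `2`-subgroups of
  order `2`.
* `deg_minus_main`: if every nonprincipal irreducible character has `χ(1) - χ(u) = c` or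
  `χ(u) = 0`, then `G` is imperfect iff `c = 2` iff `u` is a self-centralizing involution
  with `G = ⟨u⟩ O(G)`.
-/

namespace Cfsg.Agent.Lib.helper5

open Cfsg.Agent.Lib.helper23 Cfsg.Agent.Lib.helper24 Cfsg.Agent.Lib.helper9
open scoped ComplexConjugate

universe u

section dm

variable {G : Type u} [Group G]

theorem factorization_two_of_selfCent [Finite G] (u : G) (hord : orderOf u = 2)
    (hcent : Subgroup.centralizer ({u} : Set G) = Subgroup.zpowers u) :
    (Nat.card G).factorization 2 = 1 := by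
  haveI : Fact (Nat.Prime 2) := ⟨Nat.prime_two⟩
  have hzp : IsPGroup 2 (Subgroup.zpowers u) := by
    apply IsPGroup.of_card (n := 1)
    rw [Nat.card_zpowers, hord, pow_one]
  obtain ⟨S, hS⟩ := hzp.exists_le_sylow
  have huS : u ∈ (S : Subgroup G) := hS (Subgroup.mem_zpowers u)
  have hu1 : u ≠ 1 := by
    intro h
    rw [h, orderOf_one] at hord
    omega
  haveI : Nontrivial (S : Subgroup G) :=
    ⟨⟨⟨u, huS⟩, 1, fun h => hu1 (congrArg Subtype.val h)⟩⟩
  haveI := IsPGroup.center_nontrivial S.isPGroup'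
  obtain ⟨z, hz⟩ := exists_ne (1 : Subgroup.center (S : Subgroup G))
  have hzc : ((z : (S : Subgroup G)) : G) ∈ Subgroup.centralizer ({u} : Set G) := by
    rw [Subgroup.mem_centralizer_iff]
    intro y hy
    rw [Set.mem_singleton_iff] at hy
    rw [hy]
    have h1 := Subgroup.mem_center_iff.mp z.2 ⟨u, huS⟩
    exact congrArg Subtype.val h1
  rw [hcent] at hzc
  have hmem : ∀ g ∈ Subgroup.zpowers u, g = 1 ∨ g = u := by
    intro g hg
    obtain ⟨k, rfl⟩ := Subgroup.mem_zpowers_iff.mp hg
    have hu2 : u ^ (2 : ℤ) = 1 := by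
      have h0 := pow_orderOf_eq_one u
      rw [hord] at h0
      exact_mod_cast h0
    rcases Int.even_or_odd' k with ⟨m, hm | hm⟩
    · left
      rw [hm, zpow_mul, hu2, one_zpow]
    · right
      rw [hm, zpow_add, zpow_mul, hu2, one_zpow, one_mul, zpow_one]
  have hzu : ((z : (S : Subgroup G)) : G) = u := by
    rcases hmem _ hzc with h | h
    · exfalso
      apply hz
      apply Subtype.ext
      apply Subtype.ext
      exact h
    · exact h
  have hSle : (S : Subgroup G) ≤ Subgroup.zpowers u := by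
    rw [← hcent]
    intro s hs
    rw [Subgroup.mem_centralizer_iff]
    intro y hy
    rw [Set.mem_singleton_iff] at hy
    rw [hy, ← hzu]
    have h1 := Subgroup.mem_center_iff.mp z.2 ⟨s, hs⟩
    exact (congrArg Subtype.val h1).symm
  have hcardS : Nat.card (S : Subgroup G) = 2 := by
    apply le_antisymm
    · have := Subgroup.card_le_of_le hSle
      rwa [Nat.card_zpowers, hord] at this
    · have := Subgroup.card_le_of_le hS
      rwa [Nat.card_zpowers, hord] at this
  have h1 := Sylow.card_eq_multiplicity S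
  rw [hcardS] at h1
  have h2 : 2 ^ 1 = 2 ^ (Nat.card G).factorization 2 := by
    rw [pow_one]
    exact h1
  exact (Nat.pow_right_injective (le_refl 2) h2).symm

theorem deg_minus_main [Finite G] (u : G) (hu : u ≠ 1) (c : ℂ)
    (hyp : ∀ χ : Cfsg.IrrCharacter G, (χ : G → ℂ) ≠ (fun _ => (1 : ℂ)) →
      ((χ : G → ℂ) 1 - (χ : G → ℂ) u = c ∨ (χ : G → ℂ) u = 0)) :
    ((orderOf u = 2 ∧ Subgroup.zpowers u ⊔ Cfsg.oddCore G = ⊤ ∧
        Subgroup.centralizer ({u} : Set G) = Subgroup.zpowers u) ↔ commutator G ≠ ⊤) ∧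
      (commutator G ≠ ⊤ ↔ c = 2) := by
  classical
  haveI := Fintype.ofFinite G
  haveI := Fintype.ofFinite (Cfsg.IrrCharacter G)
  have hdeg : ∀ χ : Cfsg.IrrCharacter G, χ.1 1 = (Cfsg.charDegree χ.1 : ℂ) :=
    fun χ => (charDegree_cast χ).symm
  have hdpos : ∀ χ : Cfsg.IrrCharacter G, 1 ≤ Cfsg.charDegree χ.1 :=
    fun χ => Nat.one_le_iff_ne_zero.mpr (charDegree_ne_zero' χ)
  have horth : ∑ χ : Cfsg.IrrCharacter G, χ.1 u * (Cfsg.charDegree χ.1 : ℂ) = 0 := by
    have h := second_orth_of_not_isConj (G := G) (g := u) (h := 1)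
      (by rw [isConj_one_left]; exact hu)
    rw [← h]
    apply Finset.sum_congr rfl
    intro χ _
    rw [hdeg χ, Complex.conj_natCast]
  have ht : (trivIrr G).1 = fun _ => (1 : ℂ) := rfl
  have key : (∀ χ : Cfsg.IrrCharacter G, χ.1 ≠ (fun _ => (1 : ℂ)) →
      0 ≤ (χ.1 u * (Cfsg.charDegree χ.1 : ℂ)).re) → False := by
    intro hnn
    have h1 := congrArg Complex.re horth
    rw [Complex.re_sum, Complex.zero_re] at h1
    have h2 : (1 : ℝ) ≤ ∑ χ : Cfsg.IrrCharacter G, (χ.1 u * (Cfsg.charDegree χ.1 : ℂ)).re := by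
      have h3 : ((trivIrr G).1 u * (Cfsg.charDegree (trivIrr G).1 : ℂ)).re = 1 := by
        rw [← hdeg, ht]
        simp
      rw [← h3]
      apply Finset.single_le_sum
        (f := fun χ : Cfsg.IrrCharacter G => (χ.1 u * (Cfsg.charDegree χ.1 : ℂ)).re) _
        (Finset.mem_univ _)
      intro χ _
      by_cases hχ : χ.1 = (fun _ => (1 : ℂ))
      · rw [← hdeg, hχ]
        simp
      · exact hnn χ hχ
    linarith
  have hlam : ∀ lam : G →* ℂˣ, lam ≠ 1 → ((lam u : ℂˣ) : ℂ) = 1 - c := by
    intro lam hl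
    have hne : (fun g => ((lam g : ℂˣ) : ℂ)) ≠ (fun _ => (1 : ℂ)) := by
      intro h
      apply hl
      ext g
      have := congrFun h g
      simpa using this
    rcases hyp ⟨_, isIrrCharacter_of_hom lam⟩ hne with h | h
    · have h' : ((lam 1 : ℂˣ) : ℂ) - ((lam u : ℂˣ) : ℂ) = c := h
      rw [map_one, Units.val_one] at h'
      rw [← h']
      ring
    · exact absurd h (Units.ne_zero _)
  have hc0 : c ≠ 0 := by
    intro hc
    apply key
    intro χ hχ
    rcases hyp χ hχ with h | h
    · rw [hc, sub_eq_zero] at h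
      rw [← h, hdeg, ← Nat.cast_mul, Complex.natCast_re]
      positivity
    · rw [h, zero_mul, Complex.zero_re]
  have hsq : ∀ lam : G →* ℂˣ, lam ≠ 1 → lam * lam = 1 ∧ c = 2 := by
    intro lam hl
    have h1 := hlam lam hl
    have hunit : ((lam u : ℂˣ) : ℂ) ≠ 0 := Units.ne_zero _
    have hll : lam * lam = 1 := by
      by_contra hne
      have h2 := hlam (lam * lam) hne
      rw [MonoidHom.mul_apply, Units.val_mul, h1] at h2
      have h3 : (1 - c) * c = 0 := by linear_combination -h2
      rcases mul_eq_zero.mp h3 with h4 | h4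
      · rw [h1] at hunit
        exact hunit h4
      · exact hc0 h4
    refine ⟨hll, ?_⟩
    have h2 : ((lam u : ℂˣ) : ℂ) * ((lam u : ℂˣ) : ℂ) = 1 := by
      have := congrArg (fun f : G →* ℂˣ => ((f u : ℂˣ) : ℂ)) hll
      simpa using this
    rw [h1] at h2
    have h3 : c * (c - 2) = 0 := by linear_combination h2
    rcases mul_eq_zero.mp h3 with h4 | h4
    · exact absurd h4 hc0
    · exact sub_eq_zero.mp h4
  have hex : commutator G ≠ ⊤ → ∃ lam : G →* ℂˣ, lam ≠ 1 := by
    intro hcomm
    have h1 : Nat.card (G →* ℂˣ) = (commutator G).index := card_hom_units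
    have h2 : (commutator G).index ≠ 1 := fun h => hcomm (Subgroup.index_eq_one.mp h)
    have h3 : (commutator G).index ≠ 0 := Subgroup.index_ne_zero_of_finite
    haveI : Finite (G →* ℂˣ) := Nat.finite_of_card_ne_zero (by rw [h1]; exact h3)
    haveI : Nontrivial (G →* ℂˣ) := by
      rw [← Finite.one_lt_card_iff_nontrivial, h1]
      omega
    exact exists_ne (1 : G →* ℂˣ)
  have hall : commutator G = ⊤ → ∀ lam : G →* ℂˣ, lam = 1 := by
    intro hcomm lam
    have h1 : Nat.card (G →* ℂˣ) = (commutator G).index := card_hom_units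
    rw [hcomm, Subgroup.index_top] at h1
    haveI : Subsingleton (G →* ℂˣ) := (Nat.card_eq_one_iff_unique.mp h1).1
    exact Subsingleton.elim _ _
  have hcb : c = 2 → commutator G ≠ ⊤ := by
    intro hc hcomm
    apply key
    intro χ hχ
    have hd1 : Cfsg.charDegree χ.1 ≠ 1 := by
      intro h1
      apply hχ
      have h1' : χ.1 1 = 1 := by rw [hdeg, h1, Nat.cast_one]
      have h2 := hall hcomm (irrLinHom χ h1')
      funext g
      have h3 := congrArg (fun f : G →* ℂˣ => ((f g : ℂˣ) : ℂ)) h2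
      simpa [irrLinHom_apply] using h3
    have hd2 := hdpos χ
    rcases hyp χ hχ with h | h
    · obtain ⟨k, hk⟩ : ∃ k : ℕ, Cfsg.charDegree χ.1 = k + 2 :=
        ⟨Cfsg.charDegree χ.1 - 2, by omega⟩
      have h' : χ.1 u = (k : ℂ) := by
        rw [hdeg, hk, hc] at h
        push_cast at h
        linear_combination -h
      rw [h', ← Nat.cast_mul, Complex.natCast_re]
      positivity
    · rw [h, zero_mul, Complex.zero_re]
  have hba : commutator G ≠ ⊤ → (orderOf u = 2 ∧ Subgroup.zpowers u ⊔ Cfsg.oddCore G = ⊤ ∧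
      Subgroup.centralizer ({u} : Set G) = Subgroup.zpowers u) := by
    intro hcomm
    obtain ⟨lam, hl⟩ := hex hcomm
    obtain ⟨hll, hc2⟩ := hsq lam hl
    have hlu : ((lam u : ℂˣ) : ℂ) = -1 := by
      rw [hlam lam hl, hc2]
      norm_num
    have huniq : ∀ lam' : G →* ℂˣ, lam' ≠ 1 → lam' = lam := by
      intro lam' hl'
      by_contra hne
      have hprod : lam' * lam ≠ 1 := by
        intro h
        apply hne
        have h5 : lam' * lam = lam * lam := by rw [h, hll]
        exact mul_right_cancel h5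
      have h1 := hlam _ hprod
      rw [MonoidHom.mul_apply, Units.val_mul, hlam lam' hl', hlam lam hl, hc2] at h1
      norm_num at h1
    obtain ⟨t₁, ht₁⟩ : ∃ t₁ : Cfsg.IrrCharacter G, t₁.1 = fun g => ((lam g : ℂˣ) : ℂ) :=
      ⟨⟨_, isIrrCharacter_of_hom lam⟩, rfl⟩
    have htu : (trivIrr G).1 u = 1 := rfl
    have ht₁u : t₁.1 u = -1 := by
      rw [ht₁]
      exact hlu
    have ht01 : trivIrr G ≠ t₁ := by
      intro h
      have h1 := congrFun (congrArg Subtype.val h) u
      rw [htu, ht₁u] at h1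
      norm_num at h1
    have hsplit : ∀ f : Cfsg.IrrCharacter G → ℂ, ∑ χ, f χ
        = f (trivIrr G) + (f t₁ + ∑ χ ∈ (Finset.univ.erase (trivIrr G)).erase t₁, f χ) := by
      intro f
      rw [Finset.add_sum_erase _ f (Finset.mem_erase.mpr ⟨ht01.symm, Finset.mem_univ _⟩),
        Finset.add_sum_erase _ f (Finset.mem_univ _)]
    have hval : ∀ χ ∈ (Finset.univ.erase (trivIrr G)).erase t₁,
        χ.1 u = 0 ∨ ∃ k : ℕ, Cfsg.charDegree χ.1 = k + 2 ∧ χ.1 u = (k : ℂ) := by
      intro χ hχ
      rw [Finset.mem_erase, Finset.mem_erase] at hχ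
      have hχ1 : χ.1 ≠ (fun _ => (1 : ℂ)) := fun h => hχ.2.1 (Subtype.ext h)
      have hd1 : Cfsg.charDegree χ.1 ≠ 1 := by
        intro h1
        have h1' : χ.1 1 = 1 := by rw [hdeg, h1, Nat.cast_one]
        by_cases hμ : irrLinHom χ h1' = 1
        · apply hχ1
          funext g
          have h3 := congrArg (fun f : G →* ℂˣ => ((f g : ℂˣ) : ℂ)) hμ
          simpa [irrLinHom_apply] using h3
        · apply hχ.1
          apply Subtype.ext
          rw [ht₁]
          funext g
          have h3 := congrArg (fun f : G →* ℂˣ => ((f g : ℂˣ) : ℂ)) (huniq _ hμ)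
          simpa [irrLinHom_apply] using h3
      have hd2 := hdpos χ
      rcases hyp χ hχ1 with h | h
      · right
        obtain ⟨k, hk⟩ : ∃ k : ℕ, Cfsg.charDegree χ.1 = k + 2 :=
          ⟨Cfsg.charDegree χ.1 - 2, by omega⟩
        refine ⟨k, hk, ?_⟩
        rw [hdeg, hk, hc2] at h
        push_cast at h
        linear_combination -h
      · left
        exact h
    have hrest : ∑ χ ∈ (Finset.univ.erase (trivIrr G)).erase t₁,
        (χ.1 u * (Cfsg.charDegree χ.1 : ℂ)).re = 0 := by
      have h1 := horth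
      rw [hsplit] at h1
      have h2 : (trivIrr G).1 u * (Cfsg.charDegree (trivIrr G).1 : ℂ) = 1 := by
        rw [← hdeg, ht]
        simp
      have h3 : t₁.1 u * (Cfsg.charDegree t₁.1 : ℂ) = -1 := by
        rw [← hdeg, ht₁]
        simp only [map_one, Units.val_one, mul_one]
        exact hlu
      rw [h2, h3] at h1
      have h4 : ∑ χ ∈ (Finset.univ.erase (trivIrr G)).erase t₁,
          χ.1 u * (Cfsg.charDegree χ.1 : ℂ) = 0 := by linear_combination h1
      have h5 := congrArg Complex.re h4
      rwa [Complex.re_sum, Complex.zero_re] at h5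
    have hterm : ∀ χ ∈ (Finset.univ.erase (trivIrr G)).erase t₁,
        0 ≤ (χ.1 u * (Cfsg.charDegree χ.1 : ℂ)).re := by
      intro χ hχ
      rcases hval χ hχ with h | ⟨k, hk, h⟩
      · rw [h, zero_mul, Complex.zero_re]
      · rw [h, ← Nat.cast_mul, Complex.natCast_re]
        positivity
    have hzero := (Finset.sum_eq_zero_iff_of_nonneg hterm).mp hrest
    have hothers : ∀ χ ∈ (Finset.univ.erase (trivIrr G)).erase t₁, χ.1 u = 0 := by
      intro χ hχ
      rcases hval χ hχ with h | ⟨k, hk, h⟩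
      · exact h
      · have h1 := hzero χ hχ
        rw [h, ← Nat.cast_mul, Complex.natCast_re] at h1
        have h2 : k * Cfsg.charDegree χ.1 = 0 := by exact_mod_cast h1
        rcases Nat.mul_eq_zero.mp h2 with h3 | h3
        · rw [h, h3, Nat.cast_zero]
        · omega
    have hcard : Nat.card (Subgroup.centralizer ({u} : Set G)) = 2 := by
      have h1 := second_orth_of_isConj (G := G) (IsConj.refl u)
      rw [hsplit, Finset.sum_eq_zero (fun χ hχ => by rw [hothers χ hχ, zero_mul]), add_zero,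
        htu, ht₁u] at h1
      have h2 : ((2 : ℕ) : ℂ) = (Nat.card (Subgroup.centralizer ({u} : Set G)) : ℂ) := by
        rw [← h1]
        simp
        norm_num
      exact_mod_cast h2.symm
    have hzle : Subgroup.zpowers u ≤ Subgroup.centralizer ({u} : Set G) := by
      rw [Subgroup.zpowers_le, Subgroup.mem_centralizer_iff]
      intro y hy
      rw [Set.mem_singleton_iff] at hy
      rw [hy]
    have hord : orderOf u = 2 := by
      have h2 := Subgroup.card_le_of_le hzle
      rw [Nat.card_zpowers, hcard] at h2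
      have h3 : orderOf u ≠ 1 := fun h => hu (orderOf_eq_one_iff.mp h)
      have h4 : 0 < orderOf u := orderOf_pos u
      omega
    have hcent : Subgroup.centralizer ({u} : Set G) = Subgroup.zpowers u := by
      symm
      apply Subgroup.eq_of_le_of_card_ge hzle
      rw [Nat.card_zpowers, hord, hcard]
    refine ⟨hord, ?_, hcent⟩
    have hlam_pm : ∀ g : G, ((lam g : ℂˣ) : ℂ) = 1 ∨ ((lam g : ℂˣ) : ℂ) = -1 := by
      intro g
      have h2 : ((lam g : ℂˣ) : ℂ) * ((lam g : ℂˣ) : ℂ) = 1 := by
        have := congrArg (fun f : G →* ℂˣ => ((f g : ℂˣ) : ℂ)) hll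
        simpa using this
      have h3 : (((lam g : ℂˣ) : ℂ) - 1) * (((lam g : ℂˣ) : ℂ) + 1) = 0 := by
        linear_combination h2
      rcases mul_eq_zero.mp h3 with h | h
      · left
        exact sub_eq_zero.mp h
      · right
        exact eq_neg_of_add_eq_zero_left h
    have hker : ∀ g : G, g ∈ lam.ker ↔ ((lam g : ℂˣ) : ℂ) = 1 := by
      intro g
      rw [MonoidHom.mem_ker]
      constructor
      · intro h
        rw [h, Units.val_one]
      · intro h
        exact Units.ext h
    have hidx : lam.ker.index = 2 := by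
      rw [Subgroup.index_eq_two_iff]
      refine ⟨u, fun b => ?_⟩
      rw [hker, hker, map_mul, Units.val_mul, hlu]
      rcases hlam_pm b with h | h
      · rw [h]
        right
        exact ⟨rfl, by norm_num⟩
      · rw [h]
        left
        exact ⟨by norm_num, by norm_num⟩
    have hKodd : (Nat.card lam.ker).Coprime 2 := by
      have hf := factorization_two_of_selfCent u hord hcent
      have hmul := Subgroup.card_mul_index lam.ker
      rw [hidx] at hmul
      apply Nat.Coprime.symm
      rw [Nat.Prime.coprime_iff_not_dvd Nat.prime_two]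
      rintro ⟨m, hm⟩
      have h4 : 2 ^ 2 ∣ Nat.card G := ⟨m, by rw [← hmul, hm]; ring⟩
      have h5 := (Nat.Prime.pow_dvd_iff_le_factorization Nat.prime_two Nat.card_pos.ne').mp h4
      omega
    have hKle : lam.ker ≤ Cfsg.oddCore G := le_pPrimeCore (MonoidHom.normal_ker lam) hKodd
    rw [eq_top_iff]
    intro g _
    rcases hlam_pm g with h | h
    · exact Subgroup.mem_sup_right (hKle ((hker g).mpr h))
    · have h2 : u⁻¹ * g ∈ lam.ker := by
        rw [hker, map_mul, map_inv, Units.val_mul, Units.val_inv_eq_inv_val, hlu, h]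
        norm_num
      have h3 : g = u * (u⁻¹ * g) := by group
      rw [h3]
      exact Subgroup.mul_mem_sup (Subgroup.mem_zpowers u) (hKle h2)
  have hab : (orderOf u = 2 ∧ Subgroup.zpowers u ⊔ Cfsg.oddCore G = ⊤ ∧
      Subgroup.centralizer ({u} : Set G) = Subgroup.zpowers u) → commutator G ≠ ⊤ := by
    rintro ⟨hord, hsup, -⟩ hcomm
    haveI hOn : (Cfsg.oddCore G).Normal := ppc_normal 2 G
    have hOodd : (Nat.card (Cfsg.oddCore G)).Coprime 2 := pPrimeCore_coprime 2 G
    have hdecomp : ∀ g : G, ∃ k : ℤ, (u ^ k)⁻¹ * g ∈ Cfsg.oddCore G := by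
      intro g
      have hg : g ∈ Subgroup.zpowers u ⊔ Cfsg.oddCore G := by
        rw [hsup]
        trivial
      rw [Subgroup.mem_sup_of_normal_right] at hg
      obtain ⟨y, hy, z, hz, rfl⟩ := hg
      obtain ⟨k, rfl⟩ := Subgroup.mem_zpowers_iff.mp hy
      exact ⟨k, by simpa using hz⟩
    have hle : commutator G ≤ Cfsg.oddCore G := by
      rw [commutator_def, Subgroup.commutator_le]
      intro g _ h _
      obtain ⟨k, hk⟩ := hdecomp g
      obtain ⟨l, hl⟩ := hdecomp h
      have hg' : (QuotientGroup.mk g : G ⧸ Cfsg.oddCore G) = QuotientGroup.mk (u ^ k) := by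
        rw [eq_comm, QuotientGroup.eq]
        exact hk
      have hh' : (QuotientGroup.mk h : G ⧸ Cfsg.oddCore G) = QuotientGroup.mk (u ^ l) := by
        rw [eq_comm, QuotientGroup.eq]
        exact hl
      rw [← QuotientGroup.eq_one_iff, commutatorElement_def, QuotientGroup.mk_mul,
        QuotientGroup.mk_mul, QuotientGroup.mk_mul, QuotientGroup.mk_inv, QuotientGroup.mk_inv,
        hg', hh', ← QuotientGroup.mk_inv, ← QuotientGroup.mk_inv, ← QuotientGroup.mk_mul,
        ← QuotientGroup.mk_mul, ← QuotientGroup.mk_mul, QuotientGroup.eq_one_iff]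
      have h6 : u ^ k * u ^ l * (u ^ k)⁻¹ * (u ^ l)⁻¹ = 1 := by
        rw [← zpow_add, ← zpow_neg, ← zpow_neg, ← zpow_add, ← zpow_add]
        have h7 : k + l + -k + -l = 0 := by ring
        rw [h7, zpow_zero]
      rw [h6]
      exact Subgroup.one_mem _
    rw [hcomm] at hle
    have huO : u ∈ Cfsg.oddCore G := hle (Subgroup.mem_top u)
    have hdvd : orderOf u ∣ Nat.card (Cfsg.oddCore G) := by
      have h8 := orderOf_dvd_natCard (⟨u, huO⟩ : Cfsg.oddCore G)
      rwa [Subgroup.orderOf_mk] at h8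
    rw [hord] at hdvd
    exact (Nat.Prime.coprime_iff_not_dvd Nat.prime_two).mp hOodd.symm hdvd
  exact ⟨⟨hab, hba⟩, ⟨fun h => by
    obtain ⟨lam, hl⟩ := hex h
    exact (hsq lam hl).2, hcb⟩⟩

end dm

end Cfsg.Agent.Lib.helper5
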