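import Mathlib
import Cfsg.Agent.S0126
import Cfsg.Agent.S0100
import Cfsg.Agent.Lib.helper1.NormEA

set_option autoImplicit false

namespace Cfsg.Agent.Lib.helper5

open Subgroup

/-- In a finite `p`-group, commutators of elements of a normal subgroup of order `p ^ 2` are central. -/
theorem k4_comm_central {P : Type*} [Group P] [Finite P] {p : ℕ} [Fact p.Prime] (hP : IsPGroup p P)
    (E : Subgroup P) [hEn : E.Normal] (hE2 : Nat.card E = p ^ 2) (e y : P) (he : e ∈ E) :
    e * y * e⁻¹ * y⁻¹ ∈ Subgroup.center P := by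
  have hpp : p.Prime := Fact.out
  obtain ⟨X, hXE, hXn, hXc⟩ := Cfsg.Agent.S0100.exists_normal_le_card hP 1 1 E hEn (by rw [hE2])
  rw [pow_one] at hXc
  haveI := hXn
  have hXcen : X ≤ Subgroup.center P :=
    Cfsg.Agent.Lib.helper1.le_center_of_normal_card_prime hP X hXc
  have hQ : IsPGroup p (P ⧸ X) := hP.to_quotient X
  haveI hEbn : (E.map (QuotientGroup.mk' X)).Normal :=
    Subgroup.Normal.map hEn _ (QuotientGroup.mk'_surjective X)
  have hcard : Nat.card (E.map (QuotientGroup.mk' X)) = p := by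
    have h1 : (E.map (QuotientGroup.mk' X)).index = E.index := by
      rw [Subgroup.index_map, QuotientGroup.ker_mk', sup_eq_left.mpr hXE,
        MonoidHom.range_eq_top.mpr (QuotientGroup.mk'_surjective X), Subgroup.index_top, mul_one]
    have h2 := Subgroup.card_mul_index (E.map (QuotientGroup.mk' X))
    have h3 := Subgroup.card_mul_index E
    have h4 := Subgroup.card_eq_card_quotient_mul_card_subgroup X
    rw [h1] at h2
    rw [hE2] at h3
    rw [hXc] at h4
    have hi : 0 < E.index := Nat.pos_of_ne_zero (Subgroup.index_ne_zero_of_finite)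
    have h5 : Nat.card (E.map (QuotientGroup.mk' X)) * E.index * p = p * (p * E.index) := by
      rw [h2]
      have : p ^ 2 * E.index = Nat.card (P ⧸ X) * p := by rw [h3, h4]
      nlinarith [this]
    have h6 : Nat.card (E.map (QuotientGroup.mk' X)) * (E.index * p) = p * (E.index * p) := by
      nlinarith [h5]
    exact Nat.eq_of_mul_eq_mul_right (Nat.mul_pos hi hpp.pos) h6
  have hcen := Cfsg.Agent.Lib.helper1.le_center_of_normal_card_prime hQ (E.map (QuotientGroup.mk' X)) hcard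
  have h1 : (QuotientGroup.mk' X e) ∈ Subgroup.center (P ⧸ X) := hcen (Subgroup.mem_map_of_mem _ he)
  have h2 : QuotientGroup.mk' X (e * y * e⁻¹ * y⁻¹) = 1 := by
    rw [Subgroup.mem_center_iff] at h1
    have h := h1 (QuotientGroup.mk' X y)
    simp only [map_mul, map_inv]
    rw [← h]
    group
  have h3 : e * y * e⁻¹ * y⁻¹ ∈ X := by
    rw [← QuotientGroup.ker_mk' X, MonoidHom.mem_ker]; exact h2
  exact hXcen h3

/-- Key lemma: multiplying by an element of a normal elementary abelian subgroup of order `p ^ 2` does not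
change `p`-th powers (`p` odd). -/
theorem k4_mul_pow {P : Type*} [Group P] [Finite P] {p : ℕ} [Fact p.Prime] (hp2 : p ≠ 2)
    (hP : IsPGroup p P) (E : Subgroup P) [hEn : E.Normal] (hE2 : Nat.card E = p ^ 2)
    (hEp : ∀ a ∈ E, a ^ p = 1) (y e : P) (he : e ∈ E) : (y * e) ^ p = y ^ p := by
  have hpp : p.Prime := Fact.out
  set c : P := e * y * e⁻¹ * y⁻¹ with hc
  have hcz : c ∈ Subgroup.center P := k4_comm_central hP E hE2 e y he
  have hcE : c ∈ E := by
    have h1 : y * e⁻¹ * y⁻¹ ∈ E := hEn.conj_mem _ (E.inv_mem he) y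
    have : c = e * (y * e⁻¹ * y⁻¹) := by rw [hc]; group
    rw [this]; exact E.mul_mem he h1
  have hcomm : ∀ g : P, Commute c g := fun g => (Subgroup.mem_center_iff.mp hcz g).symm
  have h : e * y = c * y * e := by rw [hc]; group
  have key := Cfsg.Agent.Lib.helper1.mul_pow_class_two y e c h (hcomm y) (hcomm e) p
  rw [key, hEp e he, mul_one]
  have hdvd : p ∣ p.choose 2 := by
    rw [Nat.choose_two_right]
    have hodd : Odd p := hpp.odd_of_ne_two hp2
    obtain ⟨k, hk⟩ := hodd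
    have : p * (p - 1) / 2 = p * k := by
      have : p - 1 = 2 * k := by omega
      rw [this, ← mul_assoc, mul_comm p 2, mul_assoc, Nat.mul_div_cancel_left _ (by norm_num)]
    rw [this]; exact dvd_mul_right _ _
  obtain ⟨m, hm⟩ := hdvd
  rw [hm, pow_mul, hEp c hcE, one_pow, one_mul]

theorem k4_mul_pow_pow {P : Type*} [Group P] [Finite P] {p : ℕ} [Fact p.Prime] (hp2 : p ≠ 2)
    (hP : IsPGroup p P) (E : Subgroup P) [hEn : E.Normal] (hE2 : Nat.card E = p ^ 2)
    (hEp : ∀ a ∈ E, a ^ p = 1) (y e : P) (he : e ∈ E) (m : ℕ) (hm : 1 ≤ m) :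
    (y * e) ^ (p ^ m) = y ^ (p ^ m) := by
  obtain ⟨k, rfl⟩ : ∃ k, m = k + 1 := ⟨m - 1, by omega⟩
  rw [pow_succ', pow_mul, pow_mul, k4_mul_pow hp2 hP E hE2 hEp y e he]

theorem k4_order {P : Type*} [Group P] [Finite P] {p : ℕ} [Fact p.Prime] (hp2 : p ≠ 2)
    (hP : IsPGroup p P) (E : Subgroup P) [hEn : E.Normal] (hE2 : Nat.card E = p ^ 2)
    (hEp : ∀ a ∈ E, a ^ p = 1) (c : ℕ) (hc : 2 ≤ c) (y e : P) (he : e ∈ E)
    (hy : orderOf y = p ^ c) : orderOf (y * e) = p ^ c := by
  have hpp : p.Prime := Fact.out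
  obtain ⟨k, rfl⟩ : ∃ k, c = k + 1 := ⟨c - 1, by omega⟩
  apply orderOf_eq_prime_pow
  · rw [k4_mul_pow_pow hp2 hP E hE2 hEp y e he k (by omega)]
    intro h
    have := orderOf_dvd_of_pow_eq_one h
    rw [hy] at this
    have h2 := Nat.le_of_dvd (pow_pos hpp.pos _) this
    exact absurd h2 (not_le.mpr (Nat.pow_lt_pow_right hpp.one_lt (by omega)))
  · rw [k4_mul_pow_pow hp2 hP E hE2 hEp y e he (k + 1) (by omega), ← hy, pow_orderOf_eq_one]

theorem k4_inf_le {P : Type*} [Group P] [Finite P] {p : ℕ} [Fact p.Prime] (hp2 : p ≠ 2)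
    (hP : IsPGroup p P) (E : Subgroup P) [hEn : E.Normal] (hE2 : Nat.card E = p ^ 2)
    (hEp : ∀ a ∈ E, a ^ p = 1) (c : ℕ) (hc : 2 ≤ c) (z : P) (hz : orderOf z = p ^ c)
    (e : P) (he : e ∈ E) : zpowers (z * e) ⊓ E ≤ zpowers z := by
  have hpp : p.Prime := Fact.out
  rintro x ⟨hx1, hx2⟩
  have hord := k4_order hp2 hP E hE2 hEp c hc z e he hz
  obtain ⟨n, rfl⟩ := (Submonoid.mem_powers_iff _ _).mp (mem_powers_iff_mem_zpowers.mpr hx1)
  have h1 : ((z * e) ^ n) ^ p = 1 := hEp _ hx2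
  rw [← pow_mul] at h1
  have h2 : p ^ c ∣ n * p := by rw [← hord]; exact orderOf_dvd_of_pow_eq_one h1
  obtain ⟨k, rfl⟩ : ∃ k, c = k + 1 := ⟨c - 1, by omega⟩
  rw [pow_succ] at h2
  have h3 : p ^ k ∣ n := Nat.dvd_of_mul_dvd_mul_right hpp.pos h2
  obtain ⟨t, rfl⟩ := h3
  rw [pow_mul, k4_mul_pow_pow hp2 hP E hE2 hEp z e he k (by omega), ← pow_mul]
  exact Subgroup.pow_mem _ (mem_zpowers z) _

theorem k4_fiber {P : Type*} [Group P] [Finite P] {p : ℕ} [Fact p.Prime] (hp2 : p ≠ 2)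
    (hP : IsPGroup p P) (E : Subgroup P) [hEn : E.Normal] (hE2 : Nat.card E = p ^ 2)
    (hEp : ∀ a ∈ E, a ^ p = 1) (c : ℕ) (hc : 2 ≤ c) (z : P) (hz : orderOf z = p ^ c) :
    p ∣ Nat.card {Z : Subgroup P // (Nat.card Z = p ^ c ∧ IsCyclic Z) ∧ Z ⊔ E = zpowers z ⊔ E} := by
  have hpp : p.Prime := Fact.out
  set D : Subgroup P := zpowers z ⊓ E with hD
  set D' : Subgroup ↥E := D.subgroupOf E with hD'
  have hord : ∀ e ∈ E, orderOf (z * e) = p ^ c :=
    fun e he => k4_order hp2 hP E hE2 hEp c hc z e he hz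
  have hmem : ∀ e : ↥E, (Nat.card (zpowers (z * (e : P))) = p ^ c ∧
      IsCyclic (zpowers (z * (e : P)))) ∧ zpowers (z * (e : P)) ⊔ E = zpowers z ⊔ E := by
    intro e
    refine ⟨⟨by rw [Nat.card_zpowers, hord e e.2], inferInstance⟩, ?_⟩
    apply le_antisymm
    · exact sup_le (zpowers_le.mpr (mul_mem (mem_sup_left (mem_zpowers z)) (mem_sup_right e.2)))
        le_sup_right
    · refine sup_le (zpowers_le.mpr ?_) le_sup_right
      have h : (z * (e : P)) * (e : P)⁻¹ ∈ zpowers (z * (e : P)) ⊔ E :=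
        mul_mem (mem_sup_left (mem_zpowers _)) (mem_sup_right (E.inv_mem e.2))
      rwa [mul_inv_cancel_right] at h
  have hcrit : ∀ e e' : ↥E,
      zpowers (z * (e : P)) = zpowers (z * (e' : P)) ↔ e⁻¹ * e' ∈ D' := by
    intro e e'
    rw [hD', Subgroup.mem_subgroupOf, hD, Subgroup.mem_inf]
    constructor
    · intro h
      have h1 : z * (e' : P) ∈ zpowers (z * (e : P)) := by rw [h]; exact mem_zpowers _
      have h2 : ((e⁻¹ * e' : ↥E) : P) = (z * (e : P))⁻¹ * (z * (e' : P)) := by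
        push_cast; group
      have h3 : ((e⁻¹ * e' : ↥E) : P) ∈ zpowers (z * (e : P)) := by
        rw [h2]; exact mul_mem (inv_mem (mem_zpowers _)) h1
      exact ⟨k4_inf_le hp2 hP E hE2 hEp c hc z hz e e.2 ⟨h3, (e⁻¹ * e').2⟩, (e⁻¹ * e').2⟩
    · rintro ⟨h1, h2⟩
      have h3 : ((e⁻¹ * e' : ↥E) : P) ∈ zpowers (z * (e : P)) := by
        have hz' : orderOf (z * (e : P)) = p ^ c := hord e e.2
        have := k4_inf_le hp2 hP E hE2 hEp c hc (z * (e : P)) hz' (e : P)⁻¹ (E.inv_mem e.2)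
        have hzz : z * (e : P) * (e : P)⁻¹ = z := by group
        rw [hzz] at this
        exact this ⟨h1, h2⟩
      have h4 : z * (e' : P) ∈ zpowers (z * (e : P)) := by
        have : z * (e' : P) = (z * (e : P)) * ((e⁻¹ * e' : ↥E) : P) := by push_cast; group
        rw [this]; exact mul_mem (mem_zpowers _) h3
      symm
      apply Subgroup.eq_of_le_of_card_ge (zpowers_le.mpr h4)
      rw [Nat.card_zpowers, Nat.card_zpowers, hord e e.2, hord e' e'.2]
  let ψ : ↥E ⧸ D' →
      {Z : Subgroup P // (Nat.card Z = p ^ c ∧ IsCyclic Z) ∧ Z ⊔ E = zpowers z ⊔ E} :=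
    Quotient.lift (fun e : ↥E => ⟨zpowers (z * (e : P)), hmem e⟩)
      (by
        intro a b hab
        have : a⁻¹ * b ∈ D' := QuotientGroup.leftRel_apply.mp hab
        exact Subtype.ext ((hcrit a b).mpr this))
  have hinj : Function.Injective ψ := by
    intro q1 q2
    refine Quotient.inductionOn₂ q1 q2 ?_
    intro a b h
    have h1 : zpowers (z * (a : P)) = zpowers (z * (b : P)) := congrArg Subtype.val h
    exact QuotientGroup.eq.mpr ((hcrit a b).mp h1)
  have hsurj : Function.Surjective ψ := by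
    rintro ⟨Z, ⟨hZc, hZcyc⟩, hZE⟩
    have hzmem : z ∈ ((Z ⊔ E : Subgroup P) : Set P) := by
      rw [hZE]; exact mem_sup_left (mem_zpowers z)
    rw [Subgroup.mul_normal Z E] at hzmem
    obtain ⟨w, hw, e', he', hwe⟩ := Set.mem_mul.mp hzmem
    have hw' : w = z * e'⁻¹ := by rw [← hwe]; group
    have hordw : orderOf w = p ^ c := by rw [hw']; exact hord _ (E.inv_mem he')
    have hZeq : zpowers (z * e'⁻¹) = Z := by
      rw [← hw']
      apply Subgroup.eq_of_le_of_card_ge (zpowers_le.mpr hw)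
      rw [Nat.card_zpowers, hordw, hZc]
    exact ⟨QuotientGroup.mk ⟨e'⁻¹, E.inv_mem he'⟩, Subtype.ext hZeq⟩
  have hcardF := (Nat.card_congr (Equiv.ofBijective ψ ⟨hinj, hsurj⟩)).symm
  have h1 := Subgroup.card_eq_card_quotient_mul_card_subgroup D'
  have h2 : Nat.card D' = Nat.card D :=
    Nat.card_congr (Subgroup.subgroupOfEquivOfLe (inf_le_right : D ≤ E)).toEquiv
  have h3 : Nat.card D ∣ p ^ 2 := by rw [← hE2]; exact Subgroup.card_dvd_of_le inf_le_right
  obtain ⟨i, hi, hDi⟩ := (Nat.dvd_prime_pow hpp).mp h3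
  have hi2 : i ≠ 2 := by
    rintro rfl
    have hDE : D = E := Subgroup.eq_of_le_of_card_ge inf_le_right (by rw [hDi, hE2])
    have hle : E ≤ zpowers z := by rw [← hDE]; exact inf_le_left
    have hEcyc : IsCyclic ↥E := by
      haveI : IsCyclic ↥(E.subgroupOf (zpowers z)) := inferInstance
      exact (Subgroup.subgroupOfEquivOfLe hle).isCyclic.mp this
    obtain ⟨g, hg⟩ := hEcyc.exists_generator
    have hgo : orderOf g = Nat.card ↥E := orderOf_eq_card_of_forall_mem_zpowers hg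
    have hgp : g ^ p = 1 := Subtype.ext (by simpa using hEp g g.2)
    have := orderOf_dvd_of_pow_eq_one hgp
    rw [hgo, hE2] at this
    have h4 := Nat.le_of_dvd hpp.pos this
    have : p < p ^ 2 := by
      calc p = p ^ 1 := (pow_one p).symm
        _ < p ^ 2 := Nat.pow_lt_pow_right hpp.one_lt (by norm_num)
    omega
  rw [hcardF]
  rw [hE2, h2, hDi] at h1
  have hi1 : i ≤ 1 := by omega
  interval_cases i
  · rw [pow_zero, mul_one] at h1
    rw [← h1]; exact dvd_pow_self p (by norm_num)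
  · rw [pow_one] at h1
    have : Nat.card (↥E ⧸ D') = p := by
      have h5 : p * p = Nat.card (↥E ⧸ D') * p := by rw [← h1]; ring
      exact (Nat.eq_of_mul_eq_mul_right hpp.pos h5).symm
    rw [this]

theorem k4_pgroup {P : Type*} [Group P] [Finite P] {p : ℕ} [Fact p.Prime] (hp2 : p ≠ 2)
    (hP : IsPGroup p P) (hnc : ¬ IsCyclic P) (c : ℕ) (hc : 2 ≤ c) :
    p ∣ Nat.card {Z : Subgroup P // Nat.card Z = p ^ c ∧ IsCyclic Z} := by
  classical
  obtain ⟨E, hEn, hEel, hEcard⟩ := Cfsg.Agent.S0126.result hp2 hP hnc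
  haveI := hEn
  have hEp : ∀ a ∈ E, a ^ p = 1 := hEel.2
  haveI : Fintype (Subgroup P) := Fintype.ofFinite _
  rw [Nat.card_eq_fintype_card, Fintype.card_subtype]
  rw [Finset.card_eq_sum_card_fiberwise (f := fun Z : Subgroup P => Z ⊔ E)
    (t := (Finset.univ.filter (fun Z : Subgroup P => Nat.card Z = p ^ c ∧ IsCyclic Z)).image
      (fun Z => Z ⊔ E)) (fun x hx => Finset.mem_image_of_mem _ hx)]
  apply Finset.dvd_sum
  intro T hT
  obtain ⟨Z₀, hZ₀, rfl⟩ := Finset.mem_image.mp hT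
  rw [Finset.mem_filter] at hZ₀
  obtain ⟨-, hZc, hZcyc⟩ := hZ₀
  obtain ⟨g, hg⟩ := hZcyc.exists_generator
  have hgo : orderOf g = Nat.card Z₀ := orderOf_eq_card_of_forall_mem_zpowers hg
  have hz : orderOf (g : P) = p ^ c := by rw [Subgroup.orderOf_coe, hgo, hZc]
  have hZz : Z₀ = zpowers (g : P) := by
    symm; apply Subgroup.eq_of_le_of_card_ge (zpowers_le.mpr g.2); rw [Nat.card_zpowers, hz, hZc]
  have key := k4_fiber hp2 hP E hEcard hEp c hc (g : P) hz
  rw [Nat.card_eq_fintype_card, Fintype.card_subtype] at key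
  rw [Finset.filter_filter, hZz]
  convert key using 2

/-- Miller's theorem for `p`-groups (`p` odd): in a non-cyclic finite `p`-group the number of cyclic
subgroups of order `p ^ c`, `c ≥ 2`, is divisible by `p`. -/
theorem miller_pgroup {P : Type*} [Group P] [Finite P] (p c : ℕ) (hp : p.Prime) (hp2 : p ≠ 2)
    (hP : IsPGroup p P) (hnc : ¬ IsCyclic P) (hc : 2 ≤ c) :
    p ∣ Nat.card {Z : Subgroup P // Nat.card Z = p ^ c ∧ IsCyclic Z} := by
  haveI : Fact p.Prime := ⟨hp⟩
  exact k4_pgroup hp2 hP hnc c hc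

end Cfsg.Agent.Lib.helper5
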