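import Cfsg.Agent.Lib.helper5.K4237b
import Cfsg.Agent.Lib.helper20.Wielandt

set_option autoImplicit false

namespace Cfsg.Agent.Lib.helper5

open Subgroup

/-- Cyclic subgroups of order `n` of a subgroup `S`, counted inside `S` or inside the whole group. -/
theorem k4_card_sub {G : Type*} [Group G] [Finite G] (S : Subgroup G) (n : ℕ) :
    Nat.card {Z : Subgroup ↥S // Nat.card Z = n ∧ IsCyclic Z} =
      Nat.card {H : Subgroup G // (Nat.card H = n ∧ IsCyclic H) ∧ H ≤ S} := by
  refine Nat.card_congr
    { toFun := fun Z => ⟨Z.1.map S.subtype,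
        ⟨by rw [Subgroup.card_map_of_injective S.subtype_injective]; exact Z.2.1,
          (Z.1.equivMapOfInjective S.subtype S.subtype_injective).isCyclic.mp Z.2.2⟩,
        Subgroup.map_subtype_le _⟩
      invFun := fun H => ⟨H.1.subgroupOf S,
        by rw [Nat.card_congr (Subgroup.subgroupOfEquivOfLe H.2.2).toEquiv]; exact H.2.1.1,
        (Subgroup.subgroupOfEquivOfLe H.2.2).isCyclic.mpr H.2.1.2⟩
      left_inv := fun Z =>
        Subtype.ext (Subgroup.comap_map_eq_self_of_injective S.subtype_injective _)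
      right_inv := fun H => Subtype.ext (Subgroup.map_subgroupOf_eq_of_le H.2.2) }

/-- Miller: if the Sylow `p`-subgroups (`p` odd) are not cyclic and `c ≥ 2`, the number of cyclic subgroups
of order `p ^ c` is divisible by `p`. -/
theorem k4_miller {G : Type*} [Group G] [Finite G] {p : ℕ} [Fact p.Prime] (hp2 : p ≠ 2)
    (hnc : ∀ S : Sylow p G, ¬ IsCyclic ↥(S : Subgroup G)) (c : ℕ) (hc : 2 ≤ c) :
    p ∣ Nat.card {H : Subgroup G // Nat.card H = p ^ c ∧ IsCyclic H} := by
  classical
  have hpp : p.Prime := Fact.out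
  haveI : Fintype (Subgroup G) := Fintype.ofFinite _
  haveI : Fintype (Sylow p G) := Fintype.ofFinite _
  rw [Nat.card_eq_fintype_card, Fintype.card_subtype]
  have h1 : ∀ H ∈ Finset.univ.filter (fun H : Subgroup G => Nat.card H = p ^ c ∧ IsCyclic H),
      (Finset.univ.filter (fun S : Sylow p G => H ≤ (S : Subgroup G))).card ≡ 1 [MOD p] := by
    intro H hH
    rw [Finset.mem_filter] at hH
    have hHp : IsPGroup p H := IsPGroup.of_card hH.2.1
    have e1 := hHp.card_modEq_card_fixedPoints (Sylow p G)
    have e2 := card_sylow_modEq_one p G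
    have e3 : Nat.card (MulAction.fixedPoints ↥H (Sylow p G)) =
        (Finset.univ.filter (fun S : Sylow p G => H ≤ (S : Subgroup G))).card := by
      rw [← Fintype.card_subtype, ← Nat.card_eq_fintype_card]
      apply Nat.card_congr
      exact Equiv.subtypeEquivRight (fun S => hHp.sylow_mem_fixedPoints_iff)
    rw [← e3]
    exact e1.symm.trans e2
  have h2 := Finset.sum_card_bipartiteAbove_eq_sum_card_bipartiteBelow
    (s := Finset.univ.filter (fun H : Subgroup G => Nat.card H = p ^ c ∧ IsCyclic H))
    (t := (Finset.univ : Finset (Sylow p G))) (fun (H : Subgroup G) (S : Sylow p G) => H ≤ (S : Subgroup G))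
  have h3 : ∀ S : Sylow p G, p ∣ ((Finset.univ.filter
      (fun H : Subgroup G => Nat.card H = p ^ c ∧ IsCyclic H)).filter
        (fun H => H ≤ (S : Subgroup G))).card := by
    intro S
    have key := k4_pgroup hp2 S.isPGroup' (hnc S) c hc
    rw [k4_card_sub, Nat.card_eq_fintype_card, Fintype.card_subtype] at key
    rw [Finset.filter_filter]
    convert key using 2
  have h4 : (∑ H ∈ Finset.univ.filter (fun H : Subgroup G => Nat.card H = p ^ c ∧ IsCyclic H),
      (Finset.univ.filter (fun S : Sylow p G => H ≤ (S : Subgroup G))).card) ≡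
      (Finset.univ.filter (fun H : Subgroup G => Nat.card H = p ^ c ∧ IsCyclic H)).card [MOD p] := by
    rw [← ZMod.natCast_eq_natCast_iff]
    push_cast
    rw [Finset.sum_congr rfl (fun H hH => by
      have := (ZMod.natCast_eq_natCast_iff _ _ _).mpr (h1 H hH)
      rw [this, Nat.cast_one])]
    simp
  have h5 : p ∣ ∑ H ∈ Finset.univ.filter (fun H : Subgroup G => Nat.card H = p ^ c ∧ IsCyclic H),
      (Finset.univ.filter (fun S : Sylow p G => H ≤ (S : Subgroup G))).card := by
    have : (∑ H ∈ Finset.univ.filter (fun H : Subgroup G => Nat.card H = p ^ c ∧ IsCyclic H),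
      (Finset.univ.filter (fun S : Sylow p G => H ≤ (S : Subgroup G))).card) =
      ∑ S ∈ (Finset.univ : Finset (Sylow p G)), ((Finset.univ.filter
      (fun H : Subgroup G => Nat.card H = p ^ c ∧ IsCyclic H)).filter
        (fun H => H ≤ (S : Subgroup G))).card := h2
    rw [this]
    exact Finset.dvd_sum (fun S _ => h3 S)
  exact (Nat.modEq_zero_iff_dvd.mp (h4.symm.trans (Nat.modEq_zero_iff_dvd.mpr h5)))

/-- The number of non-cyclic subgroups of order `p ^ c` (`p` odd) is `0` or `1` modulo `p`. -/
theorem card_noncyclic_mod_p {G : Type*} [Group G] [Finite G] (p c : ℕ) (hp : p.Prime) (hp2 : p ≠ 2)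
    (hdvd : p ^ c ∣ Nat.card G) :
    Nat.card {H : Subgroup G // Nat.card H = p ^ c ∧ ¬ IsCyclic H} % p = 0 ∨
      Nat.card {H : Subgroup G // Nat.card H = p ^ c ∧ ¬ IsCyclic H} % p = 1 := by
  classical
  haveI : Fact p.Prime := ⟨hp⟩
  by_cases hgood : 2 ≤ c ∧ ∀ S : Sylow p G, ¬ IsCyclic ↥(S : Subgroup G)
  · right
    obtain ⟨hc, hnc⟩ := hgood
    have h1 := Cfsg.Agent.Lib.helper20.card_subgroups_modEq_one (G := G) p c hp hdvd
    have h2 := k4_miller hp2 hnc c hc
    haveI : Fintype (Subgroup G) := Fintype.ofFinite _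
    rw [Nat.card_eq_fintype_card, Fintype.card_subtype] at h1 h2 ⊢
    have h3 := Finset.card_filter_add_card_filter_not
      (s := Finset.univ.filter (fun H : Subgroup G => Nat.card H = p ^ c))
      (fun H : Subgroup G => IsCyclic H)
    rw [Finset.filter_filter, Finset.filter_filter] at h3
    obtain ⟨k, hk⟩ := h2
    have h4 : (Finset.univ.filter (fun H : Subgroup G => Nat.card H = p ^ c ∧ ¬ IsCyclic H)).card
        ≡ 1 [MOD p] := by
      have : (Finset.univ.filter (fun H : Subgroup G => Nat.card H = p ^ c)).card ≡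
          (Finset.univ.filter (fun H : Subgroup G => Nat.card H = p ^ c ∧ ¬ IsCyclic H)).card
            [MOD p] := by
        rw [← h3, hk]
        exact (Nat.modEq_iff_dvd' (Nat.le_add_left _ _)).mpr (by rw [Nat.add_sub_cancel]; exact dvd_mul_right _ _) |>.symm
      exact this.symm.trans h1
    have h5 : 1 % p = 1 := Nat.mod_eq_of_lt hp.one_lt
    have := h4
    unfold Nat.ModEq at this
    rw [h5] at this
    exact this
  · left
    have hempty : IsEmpty {H : Subgroup G // Nat.card H = p ^ c ∧ ¬ IsCyclic H} := by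
      constructor
      rintro ⟨H, hH, hHn⟩
      apply hHn
      by_cases hc : 2 ≤ c
      · have hex : ∃ S : Sylow p G, IsCyclic ↥(S : Subgroup G) := by
          by_contra hcon
          push Not at hcon
          exact hgood ⟨hc, hcon⟩
        obtain ⟨S, hS⟩ := hex
        have hHp : IsPGroup p H := IsPGroup.of_card hH
        obtain ⟨Q, hQ⟩ := hHp.exists_le_sylow
        have hQc : IsCyclic ↥(Q : Subgroup G) := (Sylow.equiv S Q).isCyclic.mp hS
        haveI := hQc
        have hsub : IsCyclic ↥(H.subgroupOf (Q : Subgroup G)) := inferInstance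
        exact (Subgroup.subgroupOfEquivOfLe hQ).isCyclic.mp hsub
      · have hc1 : c = 0 ∨ c = 1 := by omega
        rcases hc1 with rfl | rfl
        · rw [pow_zero] at hH
          haveI : Subsingleton ↥H := (Nat.card_eq_one_iff_unique.mp hH).1
          exact isCyclic_of_subsingleton
        · rw [pow_one] at hH
          exact isCyclic_of_prime_card hH
    rw [Nat.card_of_isEmpty]
    exact Nat.zero_mod p

end Cfsg.Agent.Lib.helper5
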