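import Mathlib
import Cfsg.Agent.Lib.helper5.BlockCover
import Cfsg.Agent.Lib.helper9.PPrimeCore

set_option autoImplicit false

/-!
# Groups with a Klein four Sylow 2-subgroup containing a central involution

If `Q` is a Klein four Sylow 2-subgroup of the finite group `H` and `Q` contains a non-identity
central element of `H`, then `N_H(Q) ≤ C_H(Q)`, so `H` has a normal 2-complement.
-/

namespace Cfsg.Agent.Lib.helper5

universe u

section klein

variable {H : Type u} [Group H] [Finite H]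

theorem conj_pow_of_swap {n q z : H} (hz : ∀ h : H, h * z = z * h) (hz2 : z * z = 1)
    (hn : n * q * n⁻¹ = z * q) (j : ℕ) :
    n ^ j * q * (n ^ j)⁻¹ = if Even j then q else z * q := by
  induction j with
  | zero => simp
  | succ j ih =>
    have h1 : n ^ (j + 1) * q * (n ^ (j + 1))⁻¹ = n * (n ^ j * q * (n ^ j)⁻¹) * n⁻¹ := by
      rw [pow_succ']; group
    rw [h1, ih]
    by_cases hj : Even j
    · have hj' : ¬ Even (j + 1) := by
        rw [Nat.even_add_one]; exact fun h => h hj
      rw [if_pos hj, if_neg hj', hn]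
    · have hj' : Even (j + 1) := by
        rw [Nat.even_add_one]; exact hj
      rw [if_neg hj, if_pos hj']
      have h2 : n * (z * q) * n⁻¹ = z * (n * q * n⁻¹) := by
        have := hz n
        calc n * (z * q) * n⁻¹ = (n * z) * q * n⁻¹ := by group
          _ = (z * n) * q * n⁻¹ := by rw [this]
          _ = z * (n * q * n⁻¹) := by group
      rw [h2, hn, ← mul_assoc, hz2, one_mul]

theorem normalizer_le_centralizer_klein (Q : Sylow 2 H) [hQ : IsKleinFour (Q : Subgroup H)]
    (z : H) (hzQ : z ∈ Q) (hz1 : z ≠ 1) (hz : ∀ h : H, h * z = z * h) :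
    Subgroup.normalizer ((Q : Subgroup H) : Set H) ≤ Subgroup.centralizer ((Q : Subgroup H) : Set H) := by
  classical
  intro n hn
  rw [Subgroup.mem_centralizer_iff]
  intro q hq
  have hq' : q ∈ (Q : Subgroup H) := hq
  have hz2 : z * z = 1 := by
    have := IsKleinFour.mul_self (⟨z, hzQ⟩ : (Q : Subgroup H))
    exact congrArg Subtype.val this
  by_cases hq1 : q = 1
  · rw [hq1]; simp
  by_cases hqz : q = z
  · rw [hqz]; exact (hz n).symm
  have hr : n * q * n⁻¹ ∈ (Q : Subgroup H) := (Subgroup.mem_normalizer_iff.mp hn q).mp hq'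
  have hr1 : n * q * n⁻¹ ≠ 1 := by
    intro h
    apply hq1
    have : q = n⁻¹ * (n * q * n⁻¹) * n := by group
    rw [this, h]; group
  have hrz : n * q * n⁻¹ ≠ z := by
    intro h
    apply hqz
    have : q = n⁻¹ * (n * q * n⁻¹) * n := by group
    rw [this, h, mul_assoc, ← hz n, ← mul_assoc, inv_mul_cancel, one_mul]
  by_cases hrq : n * q * n⁻¹ = q
  · calc q * n = (n * q * n⁻¹) * n := by rw [hrq]
      _ = n * q := by group
  exfalso
  have hrzq : n * q * n⁻¹ = z * q := by
    have h := IsKleinFour.eq_mul_of_ne_all (G := (Q : Subgroup H))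
      (x := ⟨z, hzQ⟩) (y := ⟨q, hq'⟩) (z := ⟨n * q * n⁻¹, hr⟩)
      (by intro h; exact hz1 (congrArg Subtype.val h))
      (by intro h; exact hq1 (congrArg Subtype.val h))
      (by intro h; exact hqz (congrArg Subtype.val h).symm)
      (by intro h; exact hr1 (congrArg Subtype.val h))
      (by intro h; exact hrz (congrArg Subtype.val h))
      (by intro h; exact hrq (congrArg Subtype.val h))
    exact congrArg Subtype.val h
  obtain ⟨k, m, hm, hkm⟩ := Nat.exists_eq_two_pow_mul_odd (orderOf_pos n).ne'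
  have ht := conj_pow_of_swap hz hz2 hrzq m
  rw [if_neg (Nat.not_even_iff_odd.mpr hm)] at ht
  -- `n ^ m` is a 2-element normalizing `Q`
  have hord : orderOf (n ^ m) = 2 ^ k := by
    rw [orderOf_pow' n hm.pos.ne', hkm, Nat.gcd_eq_right (Dvd.intro_left _ rfl)]
    exact Nat.mul_div_cancel _ hm.pos
  have hpg : IsPGroup 2 (Subgroup.zpowers (n ^ m)) := by
    rw [IsPGroup.iff_card]
    exact ⟨k, by rw [Nat.card_zpowers, hord]⟩
  have hmem := (hpg.inf_normalizer_sylow Q).le
    ⟨Subgroup.mem_zpowers _, Subgroup.pow_mem _ hn m⟩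
  have htQ : n ^ m ∈ (Q : Subgroup H) := hmem.2
  have hcomm : (⟨n ^ m, htQ⟩ : (Q : Subgroup H)) * ⟨q, hq'⟩ = ⟨q, hq'⟩ * ⟨n ^ m, htQ⟩ :=
    mul_comm_of_exponent_two IsKleinFour.exponent_two _ _
  have hcomm' : n ^ m * q = q * n ^ m := congrArg Subtype.val hcomm
  have h3 : n ^ m * q * (n ^ m)⁻¹ = q := by rw [hcomm']; group
  rw [h3] at ht
  apply hz1
  have : z * q * q⁻¹ = q * q⁻¹ := by rw [← ht]
  simpa using this

theorem exists_index_pow_of_klein (Q : Sylow 2 H) [hQ : IsKleinFour (Q : Subgroup H)]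
    (z : H) (hzQ : z ∈ Q) (hz1 : z ≠ 1) (hz : ∀ h : H, h * z = z * h) :
    ∃ k : ℕ, (Cfsg.pPrimeCore 2 H).index = 2 ^ k := by
  have hNC := normalizer_le_centralizer_klein Q z hzQ hz1 hz
  have hc := MonoidHom.ker_transferSylow_isComplement' Q hNC
  have hodd := MonoidHom.not_dvd_card_ker_transferSylow Q hNC
  have hidx : (MonoidHom.transferSylow Q hNC).ker.index = 4 := by
    rw [hc.symm.index_eq_card]
    exact IsKleinFour.card_four
  have hle : (MonoidHom.transferSylow Q hNC).ker ≤ Cfsg.pPrimeCore 2 H := by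
    apply Cfsg.Agent.Lib.helper9.le_pPrimeCore (MonoidHom.normal_ker _)
    exact (Nat.Prime.coprime_iff_not_dvd Nat.prime_two).mpr hodd |>.symm
  have hdvd : (Cfsg.pPrimeCore 2 H).index ∣ 2 ^ 2 := by
    have := Subgroup.index_dvd_of_le hle
    rw [hidx] at this
    exact this
  obtain ⟨k, -, hk⟩ := (Nat.dvd_prime_pow Nat.prime_two).mp hdvd
  exact ⟨k, hk⟩

end klein

section chars

open Cfsg.Agent.Lib.helper24
open scoped Pointwise

variable {G : Type u} [Group G]

/-- every `p`-element is conjugate into a given Sylow `p`-subgroup -/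
theorem exists_conj_mem_sylow [Finite G] {p : ℕ} [Fact p.Prime] (P : Sylow p G) (x : G)
    (hx : ∃ k : ℕ, orderOf x = p ^ k) : ∃ c : G, c * x * c⁻¹ ∈ (P : Subgroup G) := by
  have hpg : IsPGroup p (Subgroup.zpowers x) := by
    rw [IsPGroup.iff_card]
    obtain ⟨k, hk⟩ := hx
    exact ⟨k, by rw [Nat.card_zpowers, hk]⟩
  obtain ⟨R, hR⟩ := hpg.exists_le_sylow
  obtain ⟨c, hc⟩ := MulAction.exists_smul_eq G R P
  refine ⟨c, ?_⟩
  have h3 : MulAut.conj c • x ∈ MulAut.conj c • (R : Subgroup G) :=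
    Subgroup.smul_mem_pointwise_smul _ _ _ (hR (Subgroup.mem_zpowers x))
  have h4 : (MulAut.conj c • (R : Subgroup G)) = (P : Subgroup G) := by
    rw [← hc]
    rfl
  rw [h4] at h3
  simpa [MulAut.smul_def] using h3

/-- the sum of an irreducible character over a subgroup all of whose non-identity elements are
conjugate to `z` -/
theorem invol_restrict_nat [Fintype G] (U : Subgroup G) (z : G)
    (hU : ∀ h ∈ U, h ≠ 1 → IsConj z h) (χ : Cfsg.IrrCharacter G) :
    ∃ n : ℕ, χ.1 1 + ((Nat.card U : ℂ) - 1) * χ.1 z = (Nat.card U : ℂ) * n := by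
  classical
  have : Fintype U := Fintype.ofFinite U
  obtain ⟨n, hn⟩ := isCharacter_inner_irr_nat
    (Cfsg.Agent.Lib.helper24.isCharacter_restrict U (isCharacter_of_isIrrCharacter χ.2)) (trivIrr U)
  refine ⟨n, ?_⟩
  unfold Cfsg.classInner at hn
  have hsum : ∑ h : U, χ.1 (h : G) * (starRingEnd ℂ) ((trivIrr U).1 h)
      = χ.1 1 + ((Nat.card U : ℂ) - 1) * χ.1 z := by
    rw [← Finset.add_sum_erase Finset.univ _ (Finset.mem_univ (1 : U))]
    have h1 : ∀ h ∈ Finset.univ.erase (1 : U),
        χ.1 (h : G) * (starRingEnd ℂ) ((trivIrr U).1 h) = χ.1 z := by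
      intro h hh
      have hne : (h : G) ≠ 1 := by
        intro h0
        exact (Finset.mem_erase.mp hh).1 (Subtype.ext h0)
      rw [trivIrr_apply, map_one, mul_one]
      exact (isClassFunction_of_isConj (isClassFunction_irr χ) (hU h h.2 hne)).symm
    rw [Finset.sum_congr rfl h1, Finset.sum_const, Finset.card_erase_of_mem (Finset.mem_univ _),
      Finset.card_univ, trivIrr_apply, map_one, mul_one, nsmul_eq_mul, Nat.card_eq_fintype_card,
      Nat.cast_sub Fintype.card_pos, Nat.cast_one]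
    rfl
  rw [hsum] at hn
  have hne : (Nat.card U : ℂ) ≠ 0 := by
    exact_mod_cast (Nat.card_pos (α := U)).ne'
  rw [← hn, ← mul_assoc, mul_inv_cancel₀ hne, one_mul]

end chars

end Cfsg.Agent.Lib.helper5
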