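import Mathlib
import Cfsg.Agent.S0128
import Cfsg.Agent.S3771
import Cfsg.Agent.S0639

set_option autoImplicit false

namespace Cfsg.Agent.Lib.helper5.S1454X4

/-- `PRankLE` passes to subgroups. -/
theorem prank_sub {G : Type*} [Group G] (p k : ℕ) (H : Subgroup G) (h : Cfsg.PRankLE p k G) :
    Cfsg.PRankLE p k ↥H := by
  intro A hA hexp
  have hc : IsMulCommutative ↥(A.map H.subtype) := by
    refine ⟨⟨?_⟩⟩
    rintro ⟨x, hx⟩ ⟨y, hy⟩
    obtain ⟨x', hx', rfl⟩ := hx
    obtain ⟨y', hy', rfl⟩ := hy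
    apply Subtype.ext
    have h1 := hA.is_comm.comm ⟨x', hx'⟩ ⟨y', hy'⟩
    have h2 : x' * y' = y' * x' := congrArg Subtype.val h1
    show H.subtype x' * H.subtype y' = H.subtype y' * H.subtype x'
    rw [← map_mul, ← map_mul, h2]
  have h1 := h (A.map H.subtype) hc (by
    rintro _ ⟨a, ha, rfl⟩
    rw [← map_pow, hexp a ha, map_one])
  rwa [Subgroup.card_map_of_injective H.subtype_injective] at h1

theorem omega_sub {G : Type*} [Group G] [Finite G] (p : ℕ) [Fact p.Prime] (hp3 : 3 < p)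
    (R : Subgroup G) (hR : IsPGroup p R) (hr : Cfsg.PRankLE p 2 R) :
    ∃ T : Subgroup G, T ≤ R ∧ (∀ t ∈ T, t ^ p = 1) ∧ (∀ x ∈ R, x ^ p = 1 → x ∈ T) ∧
      Nat.card T ≤ p ^ 3 ∧ Subgroup.normalizer (R : Set G) ≤ Subgroup.normalizer (T : Set G) ∧
      (Nat.card T ≤ p ^ 2 → Cfsg.IsMetacyclic ↥R) := by
  obtain ⟨O, hOdef⟩ : ∃ O : Subgroup ↥R, O = Cfsg.omegaOne p (⊤ : Subgroup ↥R) := ⟨_, rfl⟩
  have hOcl : O = Subgroup.closure {x : ↥R | x ^ p = 1} := by
    rw [hOdef]
    unfold Cfsg.omegaOne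
    congr 1
    ext x
    simp
  have hOexp : ∀ t ∈ O, t ^ p = 1 := by
    intro t ht
    rw [hOcl] at ht
    exact Cfsg.Agent.S0128.result hp3 hR (fun E hE => hr E hE.1 hE.2) t ht
  have hcard : Nat.card ↥(O.map R.subtype) = Nat.card O :=
    Subgroup.card_map_of_injective R.subtype_injective
  have hTcl : O.map R.subtype = Subgroup.closure {x : G | x ∈ R ∧ x ^ p = 1} := by
    rw [hOcl, MonoidHom.map_closure]
    congr 1
    ext x
    constructor
    · rintro ⟨y, hy, rfl⟩
      refine ⟨y.2, ?_⟩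
      have h1 : y ^ p = 1 := hy
      have h2 := congrArg Subtype.val h1
      simpa using h2
    · rintro ⟨hx, hxp⟩
      exact ⟨⟨x, hx⟩, Subtype.ext (by simpa using hxp), rfl⟩
  refine ⟨O.map R.subtype, Subgroup.map_subtype_le O, ?_, ?_, ?_, ?_, ?_⟩
  · rintro _ ⟨t, ht, rfl⟩
    have h1 := hOexp t ht
    rw [← map_pow, h1, map_one]
  · intro x hx hxp
    rw [hTcl]
    exact Subgroup.subset_closure ⟨hx, hxp⟩
  · rw [hcard]
    have hPO : IsPGroup p ↥O := hR.to_subgroup O
    have hrO : Cfsg.PRankLE p 2 ↥O := prank_sub p 2 O hr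
    exact Cfsg.Agent.S3771.result hPO hrO
      (fun x => Subtype.ext (by simpa using hOexp x x.2))
  · rw [hTcl]
    have key : ∀ g : G, g ∈ Subgroup.normalizer (R : Set G) →
        ∀ h ∈ Subgroup.closure {x : G | x ∈ R ∧ x ^ p = 1},
          g * h * g⁻¹ ∈ Subgroup.closure {x : G | x ∈ R ∧ x ^ p = 1} := by
      intro g hg
      have hle : Subgroup.closure {x : G | x ∈ R ∧ x ^ p = 1} ≤
          (Subgroup.closure {x : G | x ∈ R ∧ x ^ p = 1}).comap (MulAut.conj g).toMonoidHom := by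
        rw [Subgroup.closure_le]
        rintro x ⟨hx, hxp⟩
        have h1 : g * x * g⁻¹ ∈ Subgroup.closure {x : G | x ∈ R ∧ x ^ p = 1} := by
          apply Subgroup.subset_closure
          refine ⟨(Subgroup.mem_normalizer_iff.mp hg x).mp hx, ?_⟩
          rw [conj_pow, hxp]
          group
        simpa using h1
      intro h hh
      have h2 := hle hh
      rw [Subgroup.mem_comap] at h2
      simpa using h2
    intro g hg
    rw [Subgroup.mem_normalizer_iff]
    intro h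
    constructor
    · exact key g hg h
    · intro hh
      have h2 := key g⁻¹ (inv_mem hg) _ hh
      have h3 : g⁻¹ * (g * h * g⁻¹) * g⁻¹⁻¹ = h := by group
      rwa [h3] at h2
  · intro hT2
    rw [hcard, hOdef] at hT2
    exact Cfsg.Agent.S0639.result hp3 hR hT2

end Cfsg.Agent.Lib.helper5.S1454X4
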