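import Mathlib
import Cfsg.Agent.Lib.helper5.ClassSep
import Cfsg.Agent.Lib.helper5.DefZero
import Cfsg.Agent.Lib.helper5.BlockDefect2
import Cfsg.Agent.Lib.helper5.BlockHeight

set_option autoImplicit false

/-!
# Blocks with a given defect group from `p`-separated classes (Robinson)

* `resRing`, `resMap`: the residue ring of the local ring at `M`.
* `blockRep`: a representative of the block of a character.
* `sep_blocks`: pairwise nonconjugate elements `x i` whose centralizers have Sylow `p`-subgroup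
  `D` and whose classes are separated by the `p`-elements give distinct blocks with defect
  group `D` and a nonsingular (mod `M`) matrix of character values.
-/

namespace Cfsg.Agent.Lib.helper5

open Cfsg.Agent.Lib.helper23 Cfsg.Agent.Lib.helper24
open scoped ComplexConjugate

universe u

section res

variable {M : Ideal Cfsg.AlgInt}

/-- the residue ring of the local ring -/
abbrev resRing (M : Ideal Cfsg.AlgInt) (hMp : M.IsPrime) : Type :=
  ↥(locRing M hMp) ⧸ locIdeal M hMp

/-- the residue map -/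
noncomputable def resMap (M : Ideal Cfsg.AlgInt) (hMp : M.IsPrime) :
    ↥(locRing M hMp) →+* resRing M hMp := Ideal.Quotient.mk _

theorem resMap_eq_zero_iff (hMp : M.IsPrime) (z : ↥(locRing M hMp)) :
    resMap M hMp z = 0 ↔ Cfsg.MemLocalIdeal M (z : ℂ) :=
  Ideal.Quotient.eq_zero_iff_mem

theorem resMap_eq_iff (hMp : M.IsPrime) (z w : ↥(locRing M hMp)) :
    resMap M hMp z = resMap M hMp w ↔ Cfsg.MemLocalIdeal M ((z : ℂ) - (w : ℂ)) := by
  unfold resMap
  rw [Ideal.Quotient.eq]
  rfl

theorem locIdeal_isPrime (hMp : M.IsPrime) : (locIdeal M hMp).IsPrime := by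
  rw [Ideal.isPrime_iff]
  refine ⟨locIdeal_ne_top hMp, ?_⟩
  intro x y hxy
  exact memLocalIdeal_or_of_mul hMp x.2 y.2 hxy

instance resRing_isDomain (hMp : M.IsPrime) : IsDomain (resRing M hMp) := by
  haveI := locIdeal_isPrime hMp
  exact Ideal.Quotient.isDomain _

end res

section sepb

variable {G : Type u} [Group G] {p : ℕ} [Fact p.Prime] {M : Ideal Cfsg.AlgInt}

theorem card_le_defect_add_degree [Finite G] (B : Set (Cfsg.IrrCharacter G))
    (χ : Cfsg.IrrCharacter G) (hχ : χ ∈ B) :
    (Nat.card G).factorization p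
      ≤ Cfsg.blockDefect p B + (Cfsg.charDegree χ.1).factorization p := by
  unfold Cfsg.blockDefect
  have h1 : sInf ((fun χ : Cfsg.IrrCharacter G => (Cfsg.charDegree χ.1).factorization p) '' B)
      ≤ (Cfsg.charDegree χ.1).factorization p := Nat.sInf_le ⟨χ, hχ, rfl⟩
  omega

theorem degree_add_defect_of_height_zero [Finite G] (B : Set (Cfsg.IrrCharacter G))
    (χ : Cfsg.IrrCharacter G) (hχ : χ ∈ B) (h0 : Cfsg.blockHeight p B χ.1 = 0) :
    (Cfsg.charDegree χ.1).factorization p + Cfsg.blockDefect p B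
      = (Nat.card G).factorization p := by
  unfold Cfsg.blockHeight at h0
  unfold Cfsg.blockDefect
  have h1 : sInf ((fun χ : Cfsg.IrrCharacter G => (Cfsg.charDegree χ.1).factorization p) '' B)
      ≤ (Cfsg.charDegree χ.1).factorization p := Nat.sInf_le ⟨χ, hχ, rfl⟩
  have h2 := factorization_charDegree_le p χ
  omega

theorem centralizer_singleton_inv (y : G) :
    Subgroup.centralizer ({y⁻¹} : Set G) = Subgroup.centralizer ({y} : Set G) := by
  ext c
  simp only [Subgroup.mem_centralizer_iff, Set.mem_singleton_iff, forall_eq]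
  constructor
  · intro h
    calc y * c = y * (c * y⁻¹) * y := by group
      _ = y * (y⁻¹ * c) * y := by rw [h]
      _ = c * y := by group
  · intro h
    calc y⁻¹ * c = y⁻¹ * (c * y) * y⁻¹ := by group
      _ = y⁻¹ * (y * c) * y⁻¹ := by rw [h]
      _ = c * y⁻¹ := by group

theorem index_centralizer_factorization [Finite G] (y : G) :
    ((Subgroup.centralizer ({y} : Set G)).index).factorization p
      + (Nat.card (Subgroup.centralizer ({y} : Set G))).factorization p
      = (Nat.card G).factorization p := by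
  rw [← Subgroup.index_mul_card (Subgroup.centralizer ({y} : Set G)),
    Nat.factorization_mul Subgroup.index_ne_zero_of_finite Nat.card_pos.ne', Finsupp.add_apply]

open Classical in
/-- a representative of the block of `χ` -/
noncomputable def blockRep (M : Ideal Cfsg.AlgInt) (χ : Cfsg.IrrCharacter G) :
    Cfsg.IrrCharacter G :=
  if h : (Cfsg.blockOf M χ.1).Nonempty then h.some else χ

theorem blockRep_mem (hMp : M.IsPrime) (χ : Cfsg.IrrCharacter G) :
    blockRep M χ ∈ Cfsg.blockOf M χ.1 := by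
  unfold blockRep
  rw [dif_pos ⟨χ, mem_blockOf_self hMp.ne_top χ⟩]
  exact Set.Nonempty.some_mem _

theorem blockRep_congr (hMp : M.IsPrime) {χ ψ : Cfsg.IrrCharacter G}
    (h : Cfsg.blockOf M χ.1 = Cfsg.blockOf M ψ.1) : blockRep M χ = blockRep M ψ := by
  unfold blockRep
  rw [dif_pos ⟨χ, mem_blockOf_self hMp.ne_top χ⟩, dif_pos ⟨ψ, mem_blockOf_self hMp.ne_top ψ⟩]
  have key : ∀ (B B' : Set (Cfsg.IrrCharacter G)) (hB : B.Nonempty) (hB' : B'.Nonempty),
      B = B' → hB.some = hB'.some := by
    intro B B' hB hB' h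
    subst h
    rfl
  exact key _ _ _ _ h

theorem blockOf_blockRep (hMp : M.IsPrime) (χ : Cfsg.IrrCharacter G) :
    Cfsg.blockOf M (blockRep M χ).1 = Cfsg.blockOf M χ.1 :=
  blockOf_eq_of_mem hMp (blockRep_mem hMp χ)

theorem blockRep_blockRep (hMp : M.IsPrime) (χ : Cfsg.IrrCharacter G) :
    blockRep M (blockRep M χ) = blockRep M χ :=
  blockRep_congr hMp (blockOf_blockRep hMp χ)

theorem sep_blocks [Finite G] (hM : Cfsg.IsPModular p M) (D : Subgroup G) {r : ℕ} (x : Fin r → G)
    (hx : ∀ i j : Fin r, IsConj (x i) (x j) → i = j)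
    (hD : ∀ i : Fin r, ∃ S : Sylow p ↥(Subgroup.centralizer ({x i} : Set G)),
      (S : Subgroup ↥(Subgroup.centralizer ({x i} : Set G))).map
        (Subgroup.centralizer ({x i} : Set G)).subtype = D)
    (hsep : ∀ i j : Fin r, ∀ g h : G, IsConj (x i) g → IsConj (x j) h →
      ∀ k : ℕ, 0 < k → orderOf (g * h⁻¹) ≠ p ^ k) :
    ∃ B : Fin r → Set (Cfsg.IrrCharacter G), Function.Injective B ∧
      (∀ i : Fin r, Cfsg.IsPBlock M (B i) ∧ Cfsg.IsDefectGroup p M (B i) D) ∧
      ∀ χ : Fin r → Cfsg.IrrCharacter G,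
        (∀ i : Fin r, χ i ∈ B i ∧ Cfsg.blockHeight p (B i) (χ i : G → ℂ) = 0) →
        ¬ Cfsg.MemLocalIdeal M
          (Matrix.det (Matrix.of fun i j : Fin r => (χ i : G → ℂ) (x j))) := by
  classical
  haveI := Fintype.ofFinite G
  haveI := Fintype.ofFinite (Cfsg.IrrCharacter G)
  have hMp := isPModular_isPrime hM
  have hp : p.Prime := Fact.out
  obtain ⟨S⟩ : Nonempty (Sylow p G) := inferInstance
  haveI : Fintype (S : Subgroup G) := Fintype.ofFinite _
  choose m hm using fun χ : Cfsg.IrrCharacter G => irr_sum_subgroup χ (S : Subgroup G)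
  have hsepS : ∀ i j : Fin r, ∀ s ∈ (S : Subgroup G), s ≠ 1 → ∀ u t : G,
      u * s * u⁻¹ ≠ t * x i * t⁻¹ * (x j)⁻¹ := by
    intro i j s hs hs1 u t heq
    obtain ⟨k, hk⟩ := (IsPGroup.iff_orderOf.mp S.isPGroup') ⟨s, hs⟩
    rw [Subgroup.orderOf_mk] at hk
    have hk0 : 0 < k := by
      rcases Nat.eq_zero_or_pos k with h0 | h0
      · rw [h0, pow_zero, orderOf_eq_one_iff] at hk
        exact absurd hk hs1
      · exact h0
    refine hsep i j (t * x i * t⁻¹) (x j) (isConj_iff.mpr ⟨t, rfl⟩) (IsConj.refl _) k hk0 ?_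
    rw [← heq, orderOf_conj_eq, hk]
  have hident : ∀ i j : Fin r, ∑ χ : Cfsg.IrrCharacter G,
      Cfsg.centralChar χ.1 (x i) * χ.1 (x j)⁻¹ * (m χ : ℂ)
      = if i = j then ((S : Subgroup G).index : ℂ) else 0 := by
    intro i j
    split_ifs with hij
    · subst hij
      exact sum_centralChar_sep_self (x i) (S : Subgroup G) m hm (hsepS i i)
    · exact sum_centralChar_sep_ne (x i) (x j) (fun hc => hij (hx i j hc)) (S : Subgroup G) m hm
        (hsepS i j)
  obtain ⟨W, hW⟩ : ∃ W : Cfsg.IrrCharacter G → Fin r → ↥(locRing M hMp),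
      ∀ χ i, ((W χ i : ↥(locRing M hMp)) : ℂ) = Cfsg.centralChar χ.1 (x i) :=
    ⟨fun χ i => ⟨_, memLocalRing_centralChar hMp χ (x i)⟩, fun _ _ => rfl⟩
  obtain ⟨Y, hY⟩ : ∃ Y : Cfsg.IrrCharacter G → Fin r → ↥(locRing M hMp),
      ∀ χ j, ((Y χ j : ↥(locRing M hMp)) : ℂ) = χ.1 (x j)⁻¹ :=
    ⟨fun χ j => ⟨_, memLocalRing_of_isIntegral hMp.ne_top
      (isCharacter_isIntegral (isCharacter_of_isIrrCharacter χ.2) (x j)⁻¹)⟩, fun _ _ => rfl⟩
  have hidentR : ∀ i j : Fin r,
      ∑ χ : Cfsg.IrrCharacter G, W χ i * Y χ j * (m χ : ↥(locRing M hMp))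
      = if i = j then (((S : Subgroup G).index : ℕ) : ↥(locRing M hMp)) else 0 := by
    intro i j
    apply Subtype.ext
    rw [AddSubmonoidClass.coe_finset_sum]
    simp only [Subring.coe_mul, hW, hY, Subring.coe_natCast]
    rw [hident i j]
    split_ifs <;> simp
  have hres : ∀ i j : Fin r, ∑ χ : Cfsg.IrrCharacter G,
      resMap M hMp (W χ i) * resMap M hMp (Y χ j) * (m χ : resRing M hMp)
      = if i = j then (((S : Subgroup G).index : ℕ) : resRing M hMp) else 0 := by
    intro i j
    have h1 := congrArg (resMap M hMp) (hidentR i j)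
    rw [map_sum] at h1
    simp only [map_mul, map_natCast] at h1
    rw [h1]
    split_ifs <;> simp
  have hWrep : ∀ χ i, resMap M hMp (W χ i) = resMap M hMp (W (blockRep M χ) i) := by
    intro χ i
    rw [resMap_eq_iff, hW, hW]
    exact (blockRep_mem hMp χ) (x i)
  obtain ⟨A, hA⟩ : ∃ A : Matrix (Fin r) (Cfsg.IrrCharacter G) (resRing M hMp),
      ∀ i τ, A i τ = resMap M hMp (W τ i) := ⟨fun i τ => resMap M hMp (W τ i), fun _ _ => rfl⟩
  obtain ⟨V, hV⟩ : ∃ V : Matrix (Cfsg.IrrCharacter G) (Fin r) (resRing M hMp),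
      ∀ τ j, V τ j = resMap M hMp (∑ χ ∈ Finset.univ.filter (fun χ => blockRep M χ = τ),
        Y χ j * (m χ : ↥(locRing M hMp))) := ⟨fun τ j => _, fun _ _ => rfl⟩
  have hAV : A * V = (((S : Subgroup G).index : ℕ) : resRing M hMp)
      • (1 : Matrix (Fin r) (Fin r) (resRing M hMp)) := by
    ext i j
    rw [Matrix.mul_apply, Matrix.smul_apply, Matrix.one_apply, smul_eq_mul, mul_ite, mul_one,
      mul_zero, ← hres i j]
    have h1 : ∀ τ : Cfsg.IrrCharacter G, A i τ * V τ j
        = ∑ χ ∈ Finset.univ.filter (fun χ => blockRep M χ = τ),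
            resMap M hMp (W χ i) * resMap M hMp (Y χ j) * (m χ : resRing M hMp) := by
      intro τ
      rw [hA, hV, map_sum, Finset.mul_sum]
      apply Finset.sum_congr rfl
      intro χ hχ
      rw [Finset.mem_filter] at hχ
      rw [hWrep χ i, hχ.2, map_mul, map_natCast, mul_assoc]
    rw [Finset.sum_congr rfl (fun τ _ => h1 τ)]
    exact Finset.sum_fiberwise _ _ _
  have hunit : (((S : Subgroup G).index : ℕ) : resRing M hMp) ≠ 0 := by
    have h1 : (((S : Subgroup G).index : ℕ) : resRing M hMp)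
        = resMap M hMp (((S : Subgroup G).index : ℕ) : ↥(locRing M hMp)) :=
      (map_natCast _ _).symm
    rw [h1, Ne, resMap_eq_zero_iff, Subring.coe_natCast, memLocalIdeal_natCast_iff hM]
    exact S.not_dvd_index
  have hdet : (A * V).det ≠ 0 := by
    rw [hAV, Matrix.det_smul, Matrix.det_one, mul_one]
    exact pow_ne_zero _ hunit
  rw [det_mul_rect] at hdet
  obtain ⟨f, -, hf⟩ := Finset.exists_ne_zero_of_sum_ne_zero hdet
  have hfV : ∀ i, V (f i) i ≠ 0 := fun i =>
    (Finset.prod_ne_zero_iff.mp (left_ne_zero_of_mul hf)) i (Finset.mem_univ i)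
  have hfdet : (A.submatrix id f).det ≠ 0 := right_ne_zero_of_mul hf
  have hfrep : ∀ i, blockRep M (f i) = f i := by
    intro i
    have h1 := hfV i
    rw [hV] at h1
    have hne : (Finset.univ.filter (fun χ => blockRep M χ = f i)).Nonempty := by
      by_contra hemp
      rw [Finset.not_nonempty_iff_eq_empty] at hemp
      rw [hemp, Finset.sum_empty, map_zero] at h1
      exact h1 rfl
    obtain ⟨χ, hχ⟩ := hne
    rw [Finset.mem_filter] at hχ
    rw [← hχ.2, blockRep_blockRep hMp]
  have hfinj : Function.Injective f := by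
    intro i j hij
    by_contra hne
    exact hfdet (Matrix.det_zero_of_column_eq hne (fun k => by
      simp [Matrix.submatrix_apply, hij]))
  have hfω : ∀ i, ∃ l, ¬ Cfsg.MemLocalIdeal M (Cfsg.centralChar (f i).1 (x l)) := by
    intro i
    by_contra hall
    push_neg at hall
    apply hfdet
    apply Matrix.det_eq_zero_of_column_eq_zero i
    intro l
    rw [Matrix.submatrix_apply, id, hA, resMap_eq_zero_iff, hW]
    exact hall l
  obtain ⟨d, hd⟩ : ∃ d, d = (Nat.card D).factorization p := ⟨_, rfl⟩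
  have hcent : ∀ l : Fin r,
      (Nat.card (Subgroup.centralizer ({x l} : Set G))).factorization p = d := by
    intro l
    obtain ⟨Sl, hSl⟩ := hD l
    rw [hd, ← hSl, card_sylow_map, hp.factorization_pow, Finsupp.single_eq_same]
  have hcardD : ∀ l : Fin r, Nat.card D = p ^ d := by
    intro l
    obtain ⟨Sl, hSl⟩ := hD l
    rw [← hcent l, ← hSl, card_sylow_map]
  have hfdef : ∀ i, Cfsg.blockDefect p (Cfsg.blockOf M (f i).1) = d := by
    intro i
    apply le_antisymm
    · obtain ⟨l, hl⟩ := hfω i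
      rw [← hcent l]
      exact blockDefect_le_factorization hM (f i) (x l) hl
    · by_contra hlt
      push_neg at hlt
      apply hfV i
      rw [hV, resMap_eq_zero_iff, AddSubmonoidClass.coe_finset_sum]
      apply memLocalIdeal_sum hMp
      intro χ hχ
      rw [Finset.mem_filter] at hχ
      rw [Subring.coe_mul, hY, Subring.coe_natCast]
      apply memLocalIdeal_mul_right hMp _ (memLocalRing_natCast hMp.ne_top _)
      apply memLocalIdeal_irr_of_factorization_lt hM
      rw [centralizer_singleton_inv]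
      have hblock : Cfsg.blockOf M (f i).1 = Cfsg.blockOf M χ.1 := by
        rw [← hχ.2, blockOf_blockRep hMp]
      have h1 := card_le_defect_add_degree (p := p) (Cfsg.blockOf M χ.1) χ
        (mem_blockOf_self hMp.ne_top χ)
      rw [← hblock] at h1
      have h2 := index_centralizer_factorization (p := p) (x i)
      rw [hcent i] at h2
      omega
  refine ⟨fun i => Cfsg.blockOf M (f i).1, ?_, ?_, ?_⟩
  · intro i j hij
    apply hfinj
    have h1 := blockRep_congr hMp hij
    rwa [hfrep, hfrep] at h1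
  · intro i
    refine ⟨⟨f i, rfl⟩, ?_⟩
    obtain ⟨l, hl⟩ := hfω i
    obtain ⟨g₀, hg₀⟩ := exists_defectClass hMp (f i)
    obtain ⟨Dv⟩ : Nonempty (Sylow p (Subgroup.centralizer ({g₀} : Set G))) := inferInstance
    obtain ⟨Du, hDu⟩ := hD l
    obtain ⟨c, hc⟩ := key_sylow hM (f i) (x l) g₀ hl hg₀.2.1 Du Dv
    rw [hDu] at hc
    have hcard : Nat.card (D.map (MulAut.conj c).toMonoidHom)
        ≤ Nat.card ((Dv : Subgroup (Subgroup.centralizer ({g₀} : Set G))).map
          (Subgroup.centralizer ({g₀} : Set G)).subtype) := by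
      rw [card_map_conj, hcardD l, card_sylow_map, defect_class_factorization hM (f i) g₀ hg₀,
        hfdef i]
    have heq := Subgroup.eq_of_le_of_card_ge hc hcard
    have hdef : Cfsg.IsDefectGroup p M (Cfsg.blockOf M (f i).1)
        ((Dv : Subgroup (Subgroup.centralizer ({g₀} : Set G))).map
          (Subgroup.centralizer ({g₀} : Set G)).subtype) := ⟨g₀, hg₀, Dv, rfl⟩
    have h2 := isDefectGroup_conj hdef c⁻¹
    rw [heq, map_conj_map_conj, inv_mul_cancel, map_conj_one] at h2
    exact h2
  · intro χ hχ hmem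
    obtain ⟨a, ha⟩ : ∃ a, a = (Nat.card G).factorization p := ⟨_, rfl⟩
    have hdegχ : ∀ i, (Cfsg.charDegree (χ i).1).factorization p + d = a := by
      intro i
      have h1 := degree_add_defect_of_height_zero (p := p) _ (χ i) (hχ i).1 (hχ i).2
      rw [hfdef i] at h1
      rw [ha]
      exact h1
    have hidx : ∀ j : Fin r,
        ((Subgroup.centralizer ({x j} : Set G)).index).factorization p + d = a := by
      intro j
      have h1 := index_centralizer_factorization (p := p) (x j)
      rw [hcent j] at h1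
      rw [ha]
      exact h1
    obtain ⟨N₁, hN₁⟩ : ∃ N₁ : ℕ, N₁ = ∏ i : Fin r, Cfsg.charDegree (χ i).1 := ⟨_, rfl⟩
    obtain ⟨N₂, hN₂⟩ : ∃ N₂ : ℕ,
        N₂ = ∏ j : Fin r, (Subgroup.centralizer ({x j} : Set G)).index := ⟨_, rfl⟩
    have hN₁0 : N₁ ≠ 0 := by
      rw [hN₁]
      exact Finset.prod_ne_zero_iff.mpr (fun i _ => charDegree_ne_zero' (χ i))
    have hN₂0 : N₂ ≠ 0 := by
      rw [hN₂]
      exact Finset.prod_ne_zero_iff.mpr (fun j _ => Subgroup.index_ne_zero_of_finite)
    have hfac : N₁.factorization p = N₂.factorization p := by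
      rw [hN₁, hN₂, Nat.factorization_prod (fun i _ => charDegree_ne_zero' (χ i)),
        Nat.factorization_prod (fun j _ => Subgroup.index_ne_zero_of_finite)]
      simp only [Finsupp.coe_finset_sum, Finset.sum_apply]
      apply Finset.sum_congr rfl
      intro i _
      have h1 := hdegχ i
      have h2 := hidx i
      omega
    -- factorization of the matrix of character values
    have hX : (Matrix.of fun i j : Fin r => (χ i : G → ℂ) (x j))
        = Matrix.diagonal (fun i : Fin r => ((Cfsg.charDegree (χ i).1 : ℕ) : ℂ))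
          * (Matrix.of fun i j : Fin r => Cfsg.centralChar (χ i).1 (x j))
          * Matrix.diagonal (fun j : Fin r =>
              (((Subgroup.centralizer ({x j} : Set G)).index : ℕ) : ℂ)⁻¹) := by
      ext i j
      rw [Matrix.mul_diagonal, Matrix.diagonal_mul, Matrix.of_apply, Matrix.of_apply]
      unfold Cfsg.centralChar
      rw [charDegree_cast]
      have h0 := irr_one_ne_zero (χ i)
      have hi : (((Subgroup.centralizer ({x j} : Set G)).index : ℕ) : ℂ) ≠ 0 := by
        exact_mod_cast (Subgroup.index_ne_zero_of_finite :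
          (Subgroup.centralizer ({x j} : Set G)).index ≠ 0)
      field_simp
    have hΩ : (Matrix.of fun i j : Fin r => Cfsg.centralChar (χ i).1 (x j)).det
        = (Matrix.of fun i j : Fin r => (χ i : G → ℂ) (x j)).det
          * ((N₂ : ℂ) / (N₁ : ℂ)) := by
      rw [hX, Matrix.det_mul, Matrix.det_mul, Matrix.det_diagonal, Matrix.det_diagonal,
        Finset.prod_inv_distrib, hN₁, hN₂]
      push_cast
      have h1 : (∏ i : Fin r, ((Cfsg.charDegree (χ i).1 : ℕ) : ℂ)) ≠ 0 := by
        rw [hN₁] at hN₁0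
        exact_mod_cast hN₁0
      have h2 : (∏ j : Fin r, (((Subgroup.centralizer ({x j} : Set G)).index : ℕ) : ℂ)) ≠ 0 := by
        rw [hN₂] at hN₂0
        exact_mod_cast hN₂0
      field_simp
    have hΩmem : Cfsg.MemLocalIdeal M
        (Matrix.of fun i j : Fin r => Cfsg.centralChar (χ i).1 (x j)).det := by
      rw [hΩ]
      exact memLocalIdeal_mul_right hMp hmem
        (memLocalRing_natCast_div hM hN₂0 hN₁0 (le_of_eq hfac))
    obtain ⟨ΩR, hΩR⟩ : ∃ ΩR : Matrix (Fin r) (Fin r) ↥(locRing M hMp),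
        ∀ i j, ΩR i j = W (χ i) j := ⟨Matrix.of fun i j => W (χ i) j, fun _ _ => rfl⟩
    have h1 : ((ΩR.det : ↥(locRing M hMp)) : ℂ)
        = (Matrix.of fun i j : Fin r => Cfsg.centralChar (χ i).1 (x j)).det := by
      have h := RingHom.map_det (locRing M hMp).subtype ΩR
      rw [Subring.subtype_apply] at h
      rw [h]
      congr 1
      ext i j
      rw [RingHom.mapMatrix_apply, Matrix.map_apply, Subring.subtype_apply, hΩR, hW,
        Matrix.of_apply]
    have h2 : resMap M hMp ΩR.det = 0 := by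
      rw [resMap_eq_zero_iff, h1]
      exact hΩmem
    rw [RingHom.map_det] at h2
    have h3 : (resMap M hMp).mapMatrix ΩR = (A.submatrix id f).transpose := by
      ext i j
      rw [RingHom.mapMatrix_apply, Matrix.map_apply, Matrix.transpose_apply,
        Matrix.submatrix_apply, id, hΩR, hA]
      symm
      rw [resMap_eq_iff, hW, hW]
      exact (hχ i).1 (x j)
    rw [h3, Matrix.det_transpose] at h2
    exact hfdet h2

end sepb

end Cfsg.Agent.Lib.helper5
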